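import Groth.Agent.LogModLocLib.Exact
import Groth.Agent.CycNCDLib.Chart
import Groth.Agent.OmegaAffLib.Universal
import Groth.Agent.OmegaAffLib.General
import Groth.Agent.OmegaAffLib.Rank
import Groth.Agent.QCohLib.Push
import Groth.Agent.QCohLib.QCoh
import Mathlib

/-!
# Bases of the log module on charts
-/

set_option autoImplicit false
set_option linter.all false
set_option backward.isDefEq.respectTransparency false

universe u

open CategoryTheory CategoryTheory.Limits AlgebraicGeometry TopologicalSpace Opposite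

noncomputable section

namespace LogModLocLib

variable {X S : Scheme.{u}} {σ : Type u}

/-- the coordinate ring map -/
def coordHom (f : X ⟶ S) (V : S.Opens) (U : X.Opens) (h : U ≤ f ⁻¹ᵁ V) (w : σ → Γ(X, U)) :
    MvPolynomial σ Γ(S, V) →+* Γ(X, U) :=
  MvPolynomial.eval₂Hom (f.appLE V U h).hom w

/-- coordinates on an affine piece of an etale chart -/
theorem etale_coordHom (f : X ⟶ S) (W : X.Opens) (v : σ → Γ(W, ⊤)) [Etale (AffineSpace.homOfVector (W.ι ≫ f) v)]
    {V : S.Opens} (hV : IsAffineOpen V) {U : X.Opens} (hU : IsAffineOpen U) (h : U ≤ f ⁻¹ᵁ V) (hW : U ≤ W) :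
    (coordHom f V U h fun i => LogNCD.sectOn W hW (v i)).Etale := by
  haveI : IsAffine (U : Scheme) := hU
  haveI : IsAffine (V : Scheme) := hV
  let G : (U : Scheme) ⟶ AffineSpace σ (V : Scheme) :=
    AffineSpace.homOfVector (f.resLE V U h) fun i => (X.homOfLE hW).appTop (v i)
  haveI : IsOpenImmersion (AffineSpace.map σ V.ι) :=
    MorphismProperty.of_isPullback (AffineSpace.isPullback_map V.ι).flip inferInstance
  have e : G ≫ AffineSpace.map σ V.ι = X.homOfLE hW ≫ AffineSpace.homOfVector (W.ι ≫ f) v := by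
    ext1
    · simp [G]
    · simp only [G, Scheme.Hom.comp_appTop, CommRingCat.comp_apply, AffineSpace.map_appTop_coord,
        AffineSpace.homOfVector_appTop_coord]
  haveI : Etale (G ≫ AffineSpace.map σ V.ι) := by rw [e]; infer_instance
  haveI : Etale G := Etale.of_comp G (AffineSpace.map σ V.ι)
  haveI : Etale (G ≫ (AffineSpace.isoOfIsAffine σ (V : Scheme)).hom) := inferInstance
  let M := G ≫ (AffineSpace.isoOfIsAffine σ (V : Scheme)).hom
  have h1 : M.appTop.hom.Etale := HasRingHomProperty.appTop @Etale M inferInstance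
  let eA : MvPolynomial σ Γ(S, V) ≃+* MvPolynomial σ Γ(V, ⊤) :=
    MvPolynomial.mapEquiv σ V.topIso.symm.commRingCatIsoToRingEquiv
  have h2 : (((Scheme.ΓSpecIso (CommRingCat.of (MvPolynomial σ Γ(V, ⊤)))).inv ≫ M.appTop ≫ U.topIso.hom).hom.comp
      eA.toRingHom).Etale := by
    refine RingHom.Etale.respectsIso.2 _ eA ?_
    simp only [CommRingCat.hom_comp]
    exact RingHom.Etale.respectsIso.2 _ (Scheme.ΓSpecIso _).symm.commRingCatIsoToRingEquiv
      (RingHom.Etale.respectsIso.1 M.appTop.hom U.topIso.commRingCatIsoToRingEquiv h1)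
  refine (congrArg RingHom.Etale ?_).mp h2
  have hM : ∀ p : MvPolynomial σ Γ(V, ⊤), M.appTop ((Scheme.ΓSpecIso (CommRingCat.of (MvPolynomial σ Γ(V, ⊤)))).inv p) =
      G.appTop (MvPolynomial.eval₂ (AffineSpace σ (V : Scheme) ↘ (V : Scheme)).appTop.hom (AffineSpace.coord (V : Scheme)) p) := fun p => by
    show G.appTop ((AffineSpace.isoOfIsAffine σ (V : Scheme)).hom.appTop _) = _
    rw [AffineSpace.isoOfIsAffine_hom_appTop, CommRingCat.comp_apply, Iso.inv_hom_id_apply]
    rfl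
  refine MvPolynomial.ringHom_ext (fun a => ?_) (fun i => ?_)
  · show U.topIso.hom (M.appTop ((Scheme.ΓSpecIso _).inv (eA (MvPolynomial.C a)))) = _
    rw [show eA (MvPolynomial.C a) = MvPolynomial.C (V.topIso.inv a) from MvPolynomial.map_C _ _, hM,
      MvPolynomial.eval₂_C, coordHom, MvPolynomial.eval₂Hom_C]
    show U.topIso.hom ((G ≫ AffineSpace σ (V : Scheme) ↘ (V : Scheme)).appTop (V.topIso.inv a)) = _
    erw [AffineSpace.homOfVector_over]
    show (V.topIso.inv ≫ (f.resLE V U h).appTop ≫ U.topIso.hom) a = (f.appLE V U h) a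
    refine ConcreteCategory.congr_hom ?_ a
    rw [← Category.assoc, ← Iso.eq_comp_inv]
    have e₁ : (⊤ : (V : Scheme).Opens) ≤ V.ι ⁻¹ᵁ V := by rw [Scheme.Opens.ι_preimage_self]
    have e₂ : (⊤ : (U : Scheme).Opens) ≤ U.ι ⁻¹ᵁ U := by rw [Scheme.Opens.ι_preimage_self]
    rw [show V.topIso.inv = V.ι.appLE V ⊤ e₁ by rw [Scheme.Opens.ι_appLE]; rfl,
      show U.topIso.inv = U.ι.appLE U ⊤ e₂ by rw [Scheme.Opens.ι_appLE]; rfl,
      show (f.resLE V U h).appTop = (f.resLE V U h).appLE ⊤ ⊤ le_top from Scheme.Hom.app_eq_appLE _,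
      Scheme.Hom.appLE_comp_appLE, Scheme.Hom.appLE_comp_appLE]
    simp only [Scheme.Hom.resLE_comp_ι]
  · show U.topIso.hom (M.appTop ((Scheme.ΓSpecIso _).inv (eA (MvPolynomial.X i)))) = _
    rw [show eA (MvPolynomial.X i) = MvPolynomial.X i from MvPolynomial.map_X _ _, hM, MvPolynomial.eval₂_X,
      AffineSpace.homOfVector_appTop_coord, coordHom, MvPolynomial.eval₂Hom_X', Scheme.homOfLE_appTop,
      LogNCD.sectOn_apply]
    show (X.presheaf.map _ ≫ X.presheaf.map _) (v i) = (X.presheaf.map _ ≫ X.presheaf.map _) (v i)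
    rw [← Functor.map_comp, ← Functor.map_comp]
    rfl

theorem coord_regular {A B : Type u} [CommRing A] [CommRing B] (φ : MvPolynomial σ A →+* B) (hφ : φ.Etale) (i : σ) :
    ∀ b : B, φ (MvPolynomial.X i) * b = 0 → b = 0 := by
  letI := φ.toAlgebra
  haveI : Algebra.Etale (MvPolynomial σ A) B := hφ
  haveI : Module.Flat (MvPolynomial σ A) B := inferInstance
  have h0 : IsSMulRegular (MvPolynomial σ A) (MvPolynomial.X i : MvPolynomial σ A) := fun a b hab =>
    (MvPolynomial.X_mul_cancel_left_iff).1 hab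
  have hreg : IsSMulRegular B (MvPolynomial.X i : MvPolynomial σ A) := IsSMulRegular.of_flat h0
  intro b hb
  refine hreg ?_
  simp only [Algebra.smul_def, RingHom.algebraMap_toAlgebra, mul_zero]
  exact hb

variable {f : X ⟶ S} {Ω' : X.Modules} {d : OmegaSh.Der f Ω'}

/-- etale coordinates give a basis of differentials -/
theorem exists_omega_basis (hd : OmegaSh.IsUniversal d) [Fintype σ] {V : S.Opens} (hV : IsAffineOpen V) {U : X.Opens}
    (hU : IsAffineOpen U) (h : U ≤ f ⁻¹ᵁ V) (w : σ → Γ(X, U)) (hw : (coordHom f V U h w).Etale) :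
    ∃ b : Module.Basis σ Γ(X, U) Γ(Ω', U), ∀ i, b i = d.app U (w i) := by
  letI := (f.appLE V U h).hom.toAlgebra
  have hw' : (MvPolynomial.aeval (R := Γ(S, V)) w).toRingHom.Etale := hw
  let b₀ := Module.Basis.ofEquivFun (LinearEquiv.ofBijective _ (CycNCDLib.bijective_of_etale w hw')).symm
  obtain ⟨e, he⟩ := OmegaAffLib.exists_equiv hd hV hU h
  refine ⟨b₀.map e, fun i => ?_⟩
  rw [Module.Basis.map_apply]
  classical
  have : b₀ i = KaehlerDifferential.D Γ(S, V) Γ(X, U) (w i) := by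
    simp [b₀, Module.Basis.coe_ofEquivFun, CycNCDLib.diffMap, Fintype.linearCombination_apply_single]
  rw [this, he]

/-- charts at any point -/
theorem exists_chart [Smooth f] {r : ℕ} {D : Fin r → X.IdealSheafData} (hD : LogNCD.IsNCD D f) {O : X.Opens} {x : X}
    (hx : x ∈ O) :
    ∃ (V : S.Opens) (_ : IsAffineOpen V) (U : X.affineOpens) (h : U.1 ≤ f ⁻¹ᵁ V) (n : ℕ)
      (w : ULift.{u} (Fin n) → Γ(X, U.1)) (e : {i // x ∈ (D i).support} → ULift.{u} (Fin n)),
      x ∈ U.1 ∧ U.1 ≤ O ∧ Function.Injective e ∧ (coordHom f V U.1 h w).Etale ∧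
      (∀ i, (D i.1).ideal U = Ideal.span {w (e i)}) ∧ ∀ i, x ∉ (D i).support → (D i).ideal U = ⊤ := by
  obtain ⟨V, hV, hfx, -⟩ := exists_isAffineOpen_mem_and_subset (U := (⊤ : S.Opens)) (x := f x) trivial
  by_cases h : Nonempty (LogNCD.Through D x)
  · obtain ⟨W, hxW, n, v, e, hinj, hv, hthr, hmiss⟩ := hD x h
    haveI := hv
    obtain ⟨U, hU, hxU, hle⟩ := exists_isAffineOpen_mem_and_subset (U := W ⊓ O ⊓ f ⁻¹ᵁ V) (x := x) ⟨⟨hxW, hx⟩, hfx⟩
    replace hle : U ≤ W ⊓ O ⊓ f ⁻¹ᵁ V := hle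
    have hUW : U ≤ W := hle.trans (inf_le_left.trans inf_le_left)
    exact ⟨V, hV, ⟨U, hU⟩, hle.trans inf_le_right, n, fun i => LogNCD.sectOn W hUW (v i), fun i => ULift.up (e i),
      hxU, hle.trans (inf_le_left.trans inf_le_right), ULift.up_injective.comp hinj, etale_coordHom f W v hV hU _ hUW,
      fun i => hthr i ⟨U, hU⟩ hUW, fun i hi => hmiss i hi ⟨U, hU⟩ hUW⟩
  · obtain ⟨V₀, hV₀, U₀, hU₀, hx₀, e₀, hss⟩ := Smooth.exists_isStandardSmooth f x
    let alg := (f.appLE V₀ U₀ e₀).hom.toAlgebra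
    haveI hss' : Algebra.IsStandardSmooth Γ(S, V₀) Γ(X, U₀) := hss
    obtain ⟨ι, τ, _, _, ⟨P⟩⟩ := hss'.out
    haveI hn : Algebra.IsStandardSmoothOfRelativeDimension P.dimension Γ(S, V₀) Γ(X, U₀) :=
      ⟨_, _, _, ‹_›, ⟨P, rfl⟩⟩
    have h' : RingHom.IsStandardSmoothOfRelativeDimension P.dimension (f.appLE V₀ U₀ e₀).hom := hn
    obtain ⟨g, hg, het⟩ := h'.exists_etale_mvPolynomial
    let O' : X.Opens := ⟨(⋃ j : Fin r, ((D j).support : Set X))ᶜ,
      (isClosed_iUnion_of_finite fun j => (D j).support.isClosed).isOpen_compl⟩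
    have hx' : x ∈ O' := fun h' => by
      obtain ⟨j, hj⟩ := Set.mem_iUnion.1 h'
      exact h ⟨⟨j, hj⟩⟩
    obtain ⟨U, hU, hxU, hle⟩ := exists_isAffineOpen_mem_and_subset (U := O' ⊓ O ⊓ U₀) (x := x) ⟨⟨hx', hx⟩, hx₀⟩
    replace hle : U ≤ O' ⊓ O ⊓ U₀ := hle
    have hUU₀ : U ≤ U₀ := hle.trans inf_le_right
    refine ⟨V₀, hV₀, ⟨U, hU⟩, hUU₀.trans e₀, P.dimension,
      fun i => X.presheaf.map (homOfLE hUU₀).op (g (MvPolynomial.X i.down)), fun i => (h ⟨i⟩).elim,
      hxU, hle.trans (inf_le_left.trans inf_le_right), fun i => (h ⟨i⟩).elim, ?_, fun i => (h ⟨i⟩).elim,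
      fun i _ => ideal_top_of_disjoint _ hU fun z hz hzj => (hle hz).1.1 (Set.mem_iUnion.2 ⟨i, hzj⟩)⟩
    have hres : (X.presheaf.map (homOfLE hUU₀).op).hom.Etale := by
      have h := HasRingHomProperty.appLE @Etale (𝟙 X) inferInstance ⟨U₀, hU₀⟩ ⟨U, hU⟩ hUU₀
      simpa [Scheme.Hom.appLE] using h
    refine (congrArg RingHom.Etale ?_).mp (RingHom.Etale.respectsIso.2 _
      (MvPolynomial.renameEquiv Γ(S, V₀) Equiv.ulift.{u, 0}).toRingEquiv (RingHom.Etale.stableUnderComposition _ _ het hres))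
    refine MvPolynomial.ringHom_ext (fun a => ?_) (fun i => ?_)
    · simp only [coordHom, MvPolynomial.eval₂Hom_C]
      show X.presheaf.map _ (g (MvPolynomial.rename _ (MvPolynomial.C a))) = _
      rw [MvPolynomial.rename_C, show g (MvPolynomial.C a) = (f.appLE V₀ U₀ e₀) a from RingHom.congr_fun hg a,
        ← CommRingCat.comp_apply, Scheme.Hom.appLE_map]
    · simp only [coordHom, MvPolynomial.eval₂Hom_X']
      show X.presheaf.map _ (g (MvPolynomial.rename _ (MvPolynomial.X i))) = _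
      rw [MvPolynomial.rename_X]
      rfl

theorem isQCoh_pi {r : ℕ} (F : Fin r → X.Modules) (h : ∀ i, Coh.IsQCoh (F i)) : Coh.IsQCoh (∏ᶜ F) := by
  classical
  haveI := QCohLib.isQCoh_sigma (fun i : ULift.{u} (Fin r) => F i.down) fun i => h i.down
  refine QCohLib.isQCoh_of_iso (M := ∐ fun i : ULift.{u} (Fin r) => F i.down)
    { hom := Sigma.desc fun i => Pi.lift fun j => if h : i.down = j then eqToHom (by rw [h]) else 0
      inv := ∑ i, Pi.π F i ≫ Sigma.ι (fun i : ULift.{u} (Fin r) => F i.down) ⟨i⟩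
      hom_inv_id := Sigma.hom_ext _ _ fun i => by
        rw [Sigma.ι_desc_assoc, Category.comp_id, Preadditive.comp_sum, Finset.sum_eq_single i.down]
        · simp
        · intro j _ hj; simp [Ne.symm hj]
        · simp
      inv_hom_id := by
        rw [Preadditive.sum_comp]
        simp only [Category.assoc, Sigma.ι_desc]
        exact (pi_decomp F).symm }

theorem isQCoh_quotMod (I : X.IdealSheafData) : Coh.IsQCoh (ClSub.quotMod I) :=
  haveI := QCohLib.isQCoh_unit (X := I.subscheme)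
  QCohLib.isQCoh_pushforward I.subschemeι _

theorem isQCoh_L (hd : OmegaSh.IsUniversal d) {r : ℕ} {D : Fin r → X.IdealSheafData} (hD : LogNCD.IsNCD D f)
    (Λ : LogNCD.LogMod d D) : Coh.IsQCoh Λ.L := by
  have h : Λ.ι ≫ Pi.lift Λ.res = 0 := Pi.hom_ext _ _ fun i => by
    rw [Category.assoc, Pi.lift_π, zero_comp]; exact Λ.res_ι i
  haveI := OmegaAffLib.isQCoh_of_isUniversal hd
  haveI := isQCoh_pi _ fun i => isQCoh_quotMod (D i)
  exact QCohLib.isQCoh_of_shortExact (shortExact hD Λ h)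

/-- the log frame -/
theorem exists_log_basis (hd : OmegaSh.IsUniversal d) {r : ℕ} {D : Fin r → X.IdealSheafData}
    (Λ : LogNCD.LogMod d D) {V : S.Opens} (hV : IsAffineOpen V) (U : X.affineOpens) (h : U.1 ≤ f ⁻¹ᵁ V) {n : ℕ}
    (w : ULift.{u} (Fin n) → Γ(X, U.1)) (hw : (coordHom f V U.1 h w).Etale) {x : X}
    (e : {i // x ∈ (D i).support} → ULift.{u} (Fin n)) (he : Function.Injective e)
    (h₁ : ∀ i, (D i.1).ideal U = Ideal.span {w (e i)}) (h₂ : ∀ i, x ∉ (D i).support → (D i).ideal U = ⊤) :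
    Nonempty (Module.Basis (ULift.{u} (Fin n)) Γ(X, U.1) Γ(Λ.L, U.1)) := by
  classical
  haveI := Λ.mono
  let g : Fin r → Γ(X, U.1) := fun i => if hi : x ∈ (D i).support then w (e ⟨i, hi⟩) else 1
  have hg : ∀ i, (D i).ideal U = Ideal.span {g i} := fun i => by
    by_cases hi : x ∈ (D i).support
    · simp only [g, dif_pos hi]; exact h₁ ⟨i, hi⟩
    · simp only [g, dif_neg hi, Ideal.span_singleton_one]; exact h₂ i hi
  obtain ⟨-, dl, hdl, hspan, -, -⟩ := Λ.rule U g hg
  obtain ⟨bΩ, hbΩ⟩ := exists_omega_basis hd hV U.2 h w hw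
  let ιU : Γ(Ω', U.1) →ₗ[Γ(X, U.1)] Γ(Λ.L, U.1) :=
    { toFun := Λ.ι.app U.1
      map_add' := fun a b => map_add _ a b
      map_smul' := fun c a => QCohLib.app_smul Λ.ι U.1 c a }
  have hιinj : Function.Injective ιU := QCohLib.app_injective_of_mono Λ.ι U.1
  -- the frame and the factors
  let b : ULift.{u} (Fin n) → Γ(Λ.L, U.1) := fun j => if hj : ∃ i, e i = j then dl hj.choose.1 else ιU (bΩ j)
  let ε : ULift.{u} (Fin n) → Γ(X, U.1) := fun j => if ∃ i, e i = j then 1 else w j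
  have hwreg : ∀ j (a : Γ(X, U.1)), w j * a = 0 → a = 0 := fun j a ha => by
    refine coord_regular _ hw j a ?_
    rw [coordHom, MvPolynomial.eval₂Hom_X']
    exact ha
  let c : ULift.{u} (Fin n) → Γ(X, U.1) := fun j => if ∃ i, e i = j then w j else 1
  have hcb : ∀ j, c j • b j = ιU (bΩ j) := fun j => by
    by_cases hj : ∃ i, e i = j
    · simp only [c, b, dif_pos hj, if_pos hj]
      have h1 := hdl hj.choose.1
      have hg' : g hj.choose.1 = w j := by
        simp only [g, dif_pos hj.choose.2]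
        exact congrArg w hj.choose_spec
      rw [hg'] at h1
      refine h1.trans ?_
      show Λ.ι.app U.1 (d.app U.1 (w j)) = Λ.ι.app U.1 (bΩ j)
      rw [hbΩ]
    · simp only [c, b, dif_neg hj, if_neg hj, one_smul]
  have hcreg : ∀ j (a : Γ(X, U.1)), c j * a = 0 → a = 0 := fun j a ha => by
    by_cases hj : ∃ i, e i = j
    · simp only [c, if_pos hj] at ha; exact hwreg j a ha
    · simpa only [c, if_neg hj, one_mul] using ha
  have hli : LinearIndependent Γ(X, U.1) b := by
    rw [Fintype.linearIndependent_iff]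
    intro a ha j
    let G := ∏ i, c i
    have h0 : ιU (∑ i, (a i * ∏ k ∈ Finset.univ.erase i, c k) • bΩ i) = 0 := by
      rw [map_sum, ← smul_zero G, ← ha, Finset.smul_sum]
      refine Finset.sum_congr rfl fun i _ => ?_
      rw [map_smul, ← hcb, smul_smul, smul_smul]
      congr 1
      rw [mul_assoc, Finset.prod_erase_mul _ _ (Finset.mem_univ i), mul_comm]
    have h1 := Fintype.linearIndependent_iff.1 bΩ.linearIndependent _ (hιinj (h0.trans (map_zero _).symm)) j
    have hprod : ∀ (T : Finset (ULift.{u} (Fin n))) (z : Γ(X, U.1)), z * ∏ k ∈ T, c k = 0 → z = 0 := fun T => by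
      induction T using Finset.induction_on with
      | empty => intro z hz; simpa using hz
      | insert k T hk ih =>
        intro z hz
        rw [Finset.prod_insert hk, ← mul_assoc] at hz
        exact hcreg k z (by rw [mul_comm]; exact ih _ hz)
    exact hprod _ _ h1
  refine ⟨Module.Basis.mk hli ?_⟩
  intro z _
  have hz : (show Λ.L.val.obj (op U.1) from z) ∈ (⊤ : Submodule Γ(X, U.1) (Λ.L.val.obj (op U.1))) := trivial
  rw [← hspan] at hz
  refine (Submodule.span_le.2 ?_ : Submodule.span Γ(X, U.1)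
    (Set.range ((Λ.ι.val.app (op U.1)).hom) ∪ Set.range dl) ≤ (Submodule.span Γ(X, U.1) (Set.range b) :
      Submodule Γ(X, U.1) (Λ.L.val.obj (op U.1)))) hz
  rintro z (⟨ω, rfl⟩ | ⟨i, rfl⟩)
  · show ιU ω ∈ Submodule.span Γ(X, U.1) (Set.range b)
    rw [← bΩ.sum_repr ω, map_sum]
    refine sum_mem fun j _ => ?_
    rw [map_smul, ← hcb]
    exact Submodule.smul_mem _ _ (Submodule.smul_mem _ _ (Submodule.subset_span ⟨j, rfl⟩))
  · by_cases hi : x ∈ (D i).support
    · refine Submodule.subset_span ⟨e ⟨i, hi⟩, ?_⟩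
      have hj : ∃ i', e i' = e ⟨i, hi⟩ := ⟨_, rfl⟩
      simp only [b, dif_pos hj]
      rw [he hj.choose_spec]
    · have h1 := hdl i
      simp only [g, dif_neg hi, one_smul] at h1
      have h2 : d.app U.1 (1 : Γ(X, U.1)) = 0 := by
        have := OmegaAffLib.der_mul d U.1 1 1
        rw [mul_one, one_smul, left_eq_add] at this
        exact this
      rw [h1]
      show Λ.ι.app U.1 (d.app U.1 1) ∈ _
      rw [h2, map_zero]
      exact zero_mem _

/-- the log module is locally free of the relative dimension -/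
theorem isFinLocFreeOfRank (n : ℕ) [SmoothOfRelativeDimension n f] (hd : OmegaSh.IsUniversal d) {r : ℕ}
    {D : Fin r → X.IdealSheafData} (hD : LogNCD.IsNCD D f) (Λ : LogNCD.LogMod d D) :
    FlatMod.IsFinLocFreeOfRank n Λ.L := by
  intro x
  haveI : Smooth f := SmoothOfRelativeDimension.smooth n f
  obtain ⟨V₀, hV₀, U₀, hU₀, hx₀, e₀, hss⟩ := SmoothOfRelativeDimension.exists_isStandardSmoothOfRelativeDimension (n := n) (f := f) x
  obtain ⟨g, hg, het⟩ := RingHom.IsStandardSmoothOfRelativeDimension.exists_etale_mvPolynomial hss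
  obtain ⟨V, hV, U, h, m, w, e, hxU, hle, he, hw, h₁, h₂⟩ := exists_chart hD (O := U₀) hx₀
  obtain ⟨bL⟩ := exists_log_basis hd Λ hV U h w hw e he h₁ h₂
  obtain ⟨bΩ, -⟩ := exists_omega_basis hd hV U.2 h w hw
  haveI : Nonempty U.1 := ⟨⟨x, hxU⟩⟩
  haveI : Nontrivial Γ(X, U.1) := inferInstance
  let w₀ : ULift.{u} (Fin n) → Γ(X, U.1) := fun i => X.presheaf.map (homOfLE hle).op (g (MvPolynomial.X i.down))
  have hw₀ : (coordHom f V₀ U.1 (hle.trans e₀) w₀).Etale := by
    have hres : (X.presheaf.map (homOfLE hle).op).hom.Etale := by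
      have h := HasRingHomProperty.appLE @Etale (𝟙 X) inferInstance ⟨U₀, hU₀⟩ U hle
      simpa [Scheme.Hom.appLE] using h
    refine (congrArg RingHom.Etale ?_).mp (RingHom.Etale.respectsIso.2 _
      (MvPolynomial.renameEquiv Γ(S, V₀) Equiv.ulift.{u, 0}).toRingEquiv (RingHom.Etale.stableUnderComposition _ _ het hres))
    refine MvPolynomial.ringHom_ext (fun a => ?_) (fun i => ?_)
    · simp only [coordHom, MvPolynomial.eval₂Hom_C]
      show X.presheaf.map _ (g (MvPolynomial.rename _ (MvPolynomial.C a))) = _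
      rw [MvPolynomial.rename_C, show g (MvPolynomial.C a) = (f.appLE V₀ U₀ e₀) a from RingHom.congr_fun hg a,
        ← CommRingCat.comp_apply, Scheme.Hom.appLE_map]
    · simp only [coordHom, MvPolynomial.eval₂Hom_X']
      show X.presheaf.map _ (g (MvPolynomial.rename _ (MvPolynomial.X i))) = _
      rw [MvPolynomial.rename_X]
      rfl
  obtain ⟨b₀, -⟩ := exists_omega_basis hd hV₀ U.2 (hle.trans e₀) w₀ hw₀
  haveI := isQCoh_L hd hD Λ
  exact ⟨U.1, hxU, OmegaAffLib.nonempty_restrict_iso_freeMod U.2 Λ.L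
    (bL.reindex ((bΩ.indexEquiv b₀).trans Equiv.ulift))⟩

end LogModLocLib
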