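import Groth.Agent.LogModLocLib.Mero
import Mathlib

/-!
# The sheaf of logarithmic differentials
-/

set_option autoImplicit false
set_option linter.all false
set_option backward.isDefEq.respectTransparency false

universe u

open CategoryTheory CategoryTheory.Limits AlgebraicGeometry TopologicalSpace Opposite

noncomputable section

namespace LogModLocLib

variable {X S : Scheme.{u}} {r : ℕ} {D : Fin r → X.IdealSheafData} {f : X ⟶ S} {Ω' : X.Modules}
  (d : OmegaSh.Der f Ω')

/-- a morphism from its values -/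
def mkHom {M N : X.Modules} (φ : ∀ V : X.Opens, Γ(M, V) → Γ(N, V))
    (hadd : ∀ V (a b : Γ(M, V)), φ V (a + b) = φ V a + φ V b)
    (hsmul : ∀ V (c : Γ(X, V)) (a : Γ(M, V)), φ V (c • a) = c • φ V a)
    (hres : ∀ (V W : X.Opens) (h : W ≤ V) (a : Γ(M, V)), φ W (rM M h a) = rM N h (φ V a)) : M ⟶ N :=
  ⟨PresheafOfModules.homMk (M₁ := M.val) (M₂ := N.val)
    { app := fun V => AddCommGrpCat.ofHom (AddMonoidHom.mk' (φ V.unop) (hadd V.unop))
      naturality := fun V W i => by
        refine ConcreteCategory.hom_ext _ _ fun a => ?_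
        exact hres V.unop W.unop (leOfHom i.unop) a }
    fun V c a => hsmul V.unop c a⟩

lemma mkHom_app {M N : X.Modules} (φ : ∀ V : X.Opens, Γ(M, V) → Γ(N, V)) (h₁) (h₂) (h₃) (V : X.Opens) (a : Γ(M, V)) :
    (mkHom φ h₁ h₂ h₃).app V a = φ V a := rfl

lemma exists_affine_inf {U V : X.Opens} {p : X} (hU : p ∈ U) (hV : p ∈ V) :
    ∃ W : X.affineOpens, p ∈ W.1 ∧ W.1 ≤ U ∧ W.1 ≤ V := by
  obtain ⟨W, hW, hp, hle⟩ := exists_isAffineOpen_mem_and_subset (U := U ⊓ V) (x := p) ⟨hU, hV⟩
  exact ⟨⟨W, hW⟩, hp, fun z hz => (hle hz).1, fun z hz => (hle hz).2⟩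

lemma Dec.res₂ {U : X.affineOpens} {g : Fin r → Γ(X, U.1)} {hg : IsEqn D U g} {V : X.Opens} {a : Γ(MF Ω' D, V)}
    {h : U.1 ≤ V} {c : Fin r → Γ(X, U.1)} (hc : Dec d hg (rM (MF Ω' D) h a) c) (W : X.affineOpens) (hW : W.1 ≤ U.1) :
    Dec d (hg.res W hW) (rM (MF Ω' D) (hW.trans h) a) fun i => rF hW (c i) := by
  have h1 := hc.res d W hW
  rwa [rM_rM] at h1

/-- local membership in the log sheaf -/
def IsLog (V : X.Opens) (a : Γ(MF Ω' D, V)) : Prop :=
  ∀ p : X, p ∈ V → ∃ (U : X.affineOpens) (g : Fin r → Γ(X, U.1)) (hg : IsEqn D U g) (_ : p ∈ U.1) (h : U.1 ≤ V)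
    (c : Fin r → Γ(X, U.1)), Dec d hg (rM (MF Ω' D) h a) c

/-- good equations on all affines below -/
def GoodBelow {U : X.affineOpens} {g : Fin r → Γ(X, U.1)} (hg : IsEqn D U g) : Prop :=
  ∀ (W : X.affineOpens) (hW : W.1 ≤ U.1), Good d (hg.res W hW)

/-- decompositions in given good equations -/
lemma IsLog.dec {V : X.Opens} {a : Γ(MF Ω' D, V)} (ha : IsLog d V a) {U : X.affineOpens} {g : Fin r → Γ(X, U.1)}
    {hg : IsEqn D U g} (hgood : GoodBelow d hg) {p : X} (hpU : p ∈ U.1) (hpV : p ∈ V) :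
    ∃ (W : X.affineOpens) (hWU : W.1 ≤ U.1) (hWV : W.1 ≤ V) (c : Fin r → Γ(X, W.1)),
      p ∈ W.1 ∧ Dec d (hg.res W hWU) (rM (MF Ω' D) hWV a) c := by
  obtain ⟨U', g', hg', hpU', hU'V, c, hc⟩ := ha p hpV
  obtain ⟨W, hpW, hWU, hWU'⟩ := exists_affine_inf hpU hpU'
  exact ⟨W, hWU, hWU'.trans hU'V, _, hpW, (Dec.change d (hgood W hWU)).1 (hc.res₂ d W hWU')⟩

variable [Smooth f] (hd : OmegaSh.IsUniversal d) (hD : LogNCD.IsNCD D f)
include hd hD

lemma exists_goodBelow {O : X.Opens} {p : X} (hp : p ∈ O) :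
    ∃ (U : X.affineOpens) (g : Fin r → Γ(X, U.1)) (hg : IsEqn D U g), p ∈ U.1 ∧ U.1 ≤ O ∧
      Function.Injective ((toMF Ω' D).app U.1) ∧ GoodBelow d hg := by
  obtain ⟨U, g, hg, hpU, hle, hinj, h⟩ := exists_good d hd hD hp
  exact ⟨U, g, hg, hpU, hle, hinj, fun W hW => (h W hW).1⟩

lemma toMF_injective (V : X.Opens) : Function.Injective ((toMF Ω' D).app V) := by
  intro a b hab
  refine TwistLib.mod_ext Ω' fun p hp => ?_
  obtain ⟨U, g, hg, hpU, hle, hinj, -⟩ := exists_goodBelow d hd hD hp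
  have h1 := congrArg (rM (MF Ω' D) hle) hab
  rw [rM, rM, ← QCohLib.app_map (toMF Ω' D) (homOfLE hle), ← QCohLib.app_map (toMF Ω' D) (homOfLE hle)] at h1
  have h2 := congrArg (Ω'.presheaf.germ U.1 p hpU) (hinj h1)
  rwa [TopCat.Presheaf.germ_res_apply, TopCat.Presheaf.germ_res_apply] at h2

/-- the log sheaf -/
def logSub : QCohLib.LocSub (MF Ω' D) where
  mem V a := IsLog d V a
  zero V := fun p hp => by
    obtain ⟨U, g, hg, hpU, hle, -, -⟩ := exists_goodBelow d hd hD hp
    refine ⟨U, g, hg, hpU, hle, 0, 0, ?_⟩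
    simp [rM]
  add {V a b} ha hb := fun p hp => by
    obtain ⟨U, g, hg, hpU, hle, -, hgood⟩ := exists_goodBelow d hd hD hp
    obtain ⟨W, hWU, hWV, c, hpW, hc⟩ := ha.dec d hgood hpU hp
    obtain ⟨W', hW'U, hW'V, e, hpW', he⟩ := hb.dec d hgood hpU hp
    obtain ⟨T, hpT, hTW, hTW'⟩ := exists_affine_inf hpW hpW'
    refine ⟨T, _, hg.res T (hTW.trans hWU), hpT, hTW.trans hWV, (fun i => rF hTW (c i)) + (fun i => rF hTW' (e i)), ?_⟩
    have h1 := hc.res₂ d T hTW
    have h2 := he.res₂ d T hTW'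
    simp only [rF_rF] at h1 h2
    rw [rM, map_add]
    exact h1.add d h2
  smul {V} t {a} ha := fun p hp => by
    obtain ⟨U, g, hg, hpU, hle, c, hc⟩ := ha p hp
    refine ⟨U, g, hg, hpU, hle, rF hle t • c, ?_⟩
    rw [rM_smul]
    exact hc.smul d _
  res {V W} h {a} ha := fun p hp => by
    obtain ⟨U, g, hg, hpU, hle, c, hc⟩ := ha p (h hp)
    obtain ⟨T, hpT, hTU, hTW⟩ := exists_affine_inf hpU hp
    refine ⟨T, _, hg.res T hTU, hpT, hTW, fun i => rF hTU (c i), ?_⟩
    rw [show rM (MF Ω' D) hTW ((MF Ω' D).presheaf.map (homOfLE h).op a) = rM (MF Ω' D) (hTU.trans hle) a from rM_rM _ h hTW a]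
    exact hc.res₂ d T hTU
  local' {V} a h := fun p hp => by
    obtain ⟨W, hWV, hpW, hm⟩ := h p hp
    obtain ⟨U, g, hg, hpU, hle, c, hc⟩ := hm p hpW
    refine ⟨U, g, hg, hpU, hle.trans hWV, c, ?_⟩
    rwa [rM_rM] at hc

lemma toMF_isLog (V : X.Opens) (ω : Γ(Ω', V)) : IsLog d V ((toMF Ω' D).app V ω) := fun p hp => by
  obtain ⟨U, g, hg, hpU, hle, -, -⟩ := exists_goodBelow d hd hD hp
  refine ⟨U, g, hg, hpU, hle, 0, rM Ω' hle ω, ?_⟩
  simp only [Pi.zero_apply, zero_smul, Finset.sum_const_zero, add_zero]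
  exact (QCohLib.app_map (toMF Ω' D) (homOfLE hle) ω).symm

/-- the inclusion of forms without poles -/
def incl : Ω' ⟶ (logSub d hd hD).toModules :=
  mkHom (fun V ω => (logSub d hd hD).lift ((toMF Ω' D).app V ω) (toMF_isLog d hd hD V ω))
    (fun V a b => Subtype.ext (map_add _ a b))
    (fun V c a => Subtype.ext (QCohLib.app_smul (toMF Ω' D) V c a))
    (fun V W h a => Subtype.ext (QCohLib.app_map (toMF Ω' D) (homOfLE h) a))

omit [Smooth f] in
/-- the unit section of a component restricted -/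
lemma oneOn_res (i : Fin r) {V W : X.Opens} (h : W ≤ V) :
    rM (ClSub.quotMod (D i)) h (LogNCD.oneOn (D i) V) = LogNCD.oneOn (D i) W := by
  refine (QCohLib.app_map (ClSub.toSubscheme (D i)) (homOfLE h) _).symm.trans ?_
  exact congrArg ((ClSub.toSubscheme (D i)).app W) (map_one (X.presheaf.map (homOfLE h).op).hom)

omit [Smooth f] in
lemma smul_oneOn_eq {U : X.affineOpens} {g : Fin r → Γ(X, U.1)} (hg : IsEqn D U g) (i : Fin r) {c e : Γ(X, U.1)}
    (h : g i ∣ c - e) : c • LogNCD.oneOn (D i) U.1 = e • LogNCD.oneOn (D i) U.1 := by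
  rw [← sub_eq_zero, ← sub_smul]
  obtain ⟨z, hz⟩ := h
  have h1 : ∀ t : Γ(X, U.1), t • LogNCD.oneOn (D i) U.1 =
      (ClSub.toSubscheme (D i)).app U.1 (show Γ(Coh.structureModule X, U.1) from t) := fun t => by
    refine (QCohLib.app_smul (ClSub.toSubscheme (D i)) U.1 t _).symm.trans ?_
    congr 1
    exact mul_one t
  rw [h1, hz]
  exact (IntMultLib.toSubscheme_app_eq_zero_iff (D i) U _).2
    (hg i ▸ Ideal.mem_span_singleton'.2 ⟨z, mul_comm _ _⟩)

/-- the residue predicate -/
def IsRes (i : Fin r) {V : X.Opens} (a : Γ(MF Ω' D, V)) (q : Γ(ClSub.quotMod (D i), V)) : Prop :=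
  ∀ (U : X.affineOpens) (g : Fin r → Γ(X, U.1)) (hg : IsEqn D U g), GoodBelow d hg → ∀ (h : U.1 ≤ V)
    (c : Fin r → Γ(X, U.1)), Dec d hg (rM (MF Ω' D) h a) c →
      rM (ClSub.quotMod (D i)) h q = c i • LogNCD.oneOn (D i) U.1

/-- one decomposition determines the residue locally -/
lemma res_compat (i : Fin r) {V : X.Opens} (a : Γ(MF Ω' D, V)) {U U' : X.affineOpens}
    {g : Fin r → Γ(X, U.1)} {hg : IsEqn D U g} (hgood : GoodBelow d hg)
    {g' : Fin r → Γ(X, U'.1)} {hg' : IsEqn D U' g'}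
    {h : U.1 ≤ V} {h' : U'.1 ≤ V} {c : Fin r → Γ(X, U.1)} {c' : Fin r → Γ(X, U'.1)}
    (hc : Dec d hg (rM (MF Ω' D) h a) c) (hc' : Dec d hg' (rM (MF Ω' D) h' a) c')
    (T : X.affineOpens) (hT : T.1 ≤ U.1) (hT' : T.1 ≤ U'.1) :
    rM (ClSub.quotMod (D i)) hT (c i • LogNCD.oneOn (D i) U.1) =
      rM (ClSub.quotMod (D i)) hT' (c' i • LogNCD.oneOn (D i) U'.1) := by
  rw [rM_smul, rM_smul, oneOn_res d hd hD, oneOn_res d hd hD]
  exact smul_oneOn_eq d hd hD (hg.res T hT) i
    ((hc.res₂ d T hT).unique d (hgood T hT) ((Dec.change d (hgood T hT)).1 (hc'.res₂ d T hT')) i)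

lemma exists_res (i : Fin r) {V : X.Opens} (a : Γ(MF Ω' D, V)) (ha : IsLog d V a) :
    ∃ q, IsRes d i a q := by
  have hloc : ∀ p : V, ∃ (U : X.affineOpens) (g : Fin r → Γ(X, U.1)) (hg : IsEqn D U g) (h : U.1 ≤ V)
      (c : Fin r → Γ(X, U.1)), p.1 ∈ U.1 ∧ GoodBelow d hg ∧ Dec d hg (rM (MF Ω' D) h a) c := by
    intro p
    obtain ⟨U, g, hg, hpU, hle, -, hgood⟩ := exists_goodBelow d hd hD p.2
    obtain ⟨W, hWU, hWV, c, hpW, hc⟩ := ha.dec d hgood hpU p.2
    refine ⟨W, _, hg.res W hWU, hWV, c, hpW, fun T hT => ?_, hc⟩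
    have h1 := hgood T (hT.trans hWU)
    have e : (fun i => rF hT (rF hWU (g i))) = fun i => rF (hT.trans hWU) (g i) := funext fun i => rF_rF hWU hT (g i)
    revert h1
    generalize (hg.res W hWU).res T hT = h2
    revert h2
    rw [e]
    exact fun _ h => h
  choose U g hg hle c hpU hgood hc using hloc
  obtain ⟨q, hq, -⟩ := TopCat.Sheaf.existsUnique_gluing' ⟨(ClSub.quotMod (D i)).presheaf, (ClSub.quotMod (D i)).isSheaf⟩
    (fun p : V => (U p).1) V (fun p => homOfLE (hle p)) (fun x hx => Opens.mem_iSup.mpr ⟨⟨x, hx⟩, hpU ⟨x, hx⟩⟩)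
    (fun p => c p i • LogNCD.oneOn (D i) (U p).1) (by
      intro p p'
      refine TwistLib.mod_ext _ fun z hz => ?_
      obtain ⟨T, hzT, hT, hT'⟩ := exists_affine_inf hz.1 hz.2
      have h := congrArg ((ClSub.quotMod (D i)).presheaf.germ T.1 z hzT)
        (res_compat d hd hD i a (hgood p) (hc p) (hc p') T hT hT')
      rw [TopCat.Presheaf.germ_res_apply, TopCat.Presheaf.germ_res_apply] at h
      erw [TopCat.Presheaf.germ_res_apply, TopCat.Presheaf.germ_res_apply]
      exact h)
  refine ⟨q, fun U' g' hg' hgood' h' c' hc' => TwistLib.mod_ext _ fun z hz => ?_⟩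
  let p : V := ⟨z, h' hz⟩
  obtain ⟨T, hzT, hT, hT'⟩ := exists_affine_inf hz (hpU p)
  have h := congrArg ((ClSub.quotMod (D i)).presheaf.germ T.1 z hzT)
    (res_compat d hd hD i a hgood' hc' (hc p) T hT hT')
  have hqp : rM (ClSub.quotMod (D i)) (hle p) q = c p i • LogNCD.oneOn (D i) (U p).1 := hq p
  rw [← hqp, rM_rM, TopCat.Presheaf.germ_res_apply, TopCat.Presheaf.germ_res_apply] at h
  rw [TopCat.Presheaf.germ_res_apply]
  exact h.symm

lemma res_unique (i : Fin r) {V : X.Opens} {a : Γ(MF Ω' D, V)} (ha : IsLog d V a) {q q' : Γ(ClSub.quotMod (D i), V)}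
    (hq : IsRes d i a q) (hq' : IsRes d i a q') : q = q' := by
  refine TwistLib.mod_ext _ fun p hp => ?_
  obtain ⟨U, g, hg, hpU, hle, -, hgood⟩ := exists_goodBelow d hd hD hp
  obtain ⟨W, hWU, hWV, c, hpW, hc⟩ := ha.dec d hgood hpU hp
  have hgoodW : GoodBelow d (hg.res W hWU) := fun T hT => by
    have h1 := hgood T (hT.trans hWU)
    have e : (fun i => rF hT (rF hWU (g i))) = fun i => rF (hT.trans hWU) (g i) := funext fun i => rF_rF hWU hT (g i)
    revert h1
    generalize (hg.res W hWU).res T hT = h2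
    revert h2
    rw [e]
    exact fun _ h => h
  have h := congrArg ((ClSub.quotMod (D i)).presheaf.germ W.1 p hpW)
    ((hq W _ _ hgoodW hWV c hc).trans (hq' W _ _ hgoodW hWV c hc).symm)
  rwa [TopCat.Presheaf.germ_res_apply, TopCat.Presheaf.germ_res_apply] at h

/-- the residue of a log section -/
def resVal (i : Fin r) {V : X.Opens} (a : Γ((logSub d hd hD).toModules, V)) : Γ(ClSub.quotMod (D i), V) :=
  (exists_res d hd hD i _ ((logSub d hd hD).ι_app_mem a)).choose

lemma resVal_spec (i : Fin r) {V : X.Opens} (a : Γ((logSub d hd hD).toModules, V)) :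
    IsRes d i ((logSub d hd hD).ι.app V a) (resVal d hd hD i a) :=
  (exists_res d hd hD i _ ((logSub d hd hD).ι_app_mem a)).choose_spec

lemma isRes_of_local (i : Fin r) {V : X.Opens} {a : Γ(MF Ω' D, V)} {q : Γ(ClSub.quotMod (D i), V)}
    (h : ∀ p ∈ V, ∃ (U : X.affineOpens) (g : Fin r → Γ(X, U.1)) (hg : IsEqn D U g) (hle : U.1 ≤ V)
      (c : Fin r → Γ(X, U.1)), p ∈ U.1 ∧ Dec d hg (rM (MF Ω' D) hle a) c ∧
        rM (ClSub.quotMod (D i)) hle q = c i • LogNCD.oneOn (D i) U.1) : IsRes d i a q := by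
  intro U' g' hg' hgood' h' c' hc'
  refine TwistLib.mod_ext _ fun z hz => ?_
  obtain ⟨U, g, hg, hle, c, hzU, hc, hq⟩ := h z (h' hz)
  obtain ⟨T, hzT, hT, hT'⟩ := exists_affine_inf hz hzU
  have hh := congrArg ((ClSub.quotMod (D i)).presheaf.germ T.1 z hzT)
    (res_compat d hd hD i a hgood' hc' hc T hT hT')
  rw [← hq, rM_rM, TopCat.Presheaf.germ_res_apply, TopCat.Presheaf.germ_res_apply] at hh
  rw [TopCat.Presheaf.germ_res_apply]
  exact hh.symm

/-- the residue map -/
def resHom (i : Fin r) : (logSub d hd hD).toModules ⟶ ClSub.quotMod (D i) :=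
  mkHom (fun V a => resVal d hd hD i a)
    (fun V a b => by
      refine res_unique d hd hD i ((logSub d hd hD).ι_app_mem (a + b)) (resVal_spec d hd hD i (a + b))
        (isRes_of_local d hd hD i fun p hp => ?_)
      obtain ⟨U, g, hg, hpU, hle, -, hgood⟩ := exists_goodBelow d hd hD hp
      obtain ⟨W, hWU, hWV, c, hpW, hc⟩ := (((logSub d hd hD).ι_app_mem a)).dec d hgood hpU hp
      obtain ⟨W', hW'U, hW'V, e, hpW', he⟩ := (((logSub d hd hD).ι_app_mem b)).dec d hgood hpU hp
      obtain ⟨T, hpT, hTW, hTW'⟩ := exists_affine_inf hpW hpW'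
      have hgT : GoodBelow d (hg.res T (hTW.trans hWU)) := fun T' hT' => by
        have h1 := hgood T' (hT'.trans (hTW.trans hWU))
        have e : (fun i => rF hT' (rF (hTW.trans hWU) (g i))) = fun i => rF (hT'.trans (hTW.trans hWU)) (g i) :=
          funext fun i => rF_rF _ hT' (g i)
        revert h1
        generalize (hg.res T (hTW.trans hWU)).res T' hT' = h2
        revert h2
        rw [e]
        exact fun _ h => h
      have h1 := hc.res₂ d T hTW
      have h2 := he.res₂ d T hTW'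
      simp only [rF_rF] at h1 h2
      refine ⟨T, _, hg.res T (hTW.trans hWU), hTW.trans hWV, (fun i => rF hTW (c i)) + (fun i => rF hTW' (e i)), hpT, ?_, ?_⟩
      · rw [map_add, rM, map_add]
        exact h1.add d h2
      · rw [rM, map_add]
        exact (congrArg₂ (· + ·) (resVal_spec d hd hD i a T _ _ hgT _ _ h1)
          (resVal_spec d hd hD i b T _ _ hgT _ _ h2)).trans (add_smul _ _ _).symm)
    (fun V t a => by
      refine res_unique d hd hD i ((logSub d hd hD).ι_app_mem (t • a)) (resVal_spec d hd hD i (t • a))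
        (fun U g hg hgood h c hc => ?_)
      refine TwistLib.mod_ext _ fun z hz => ?_
      obtain ⟨W, hWU, hWV, e, hzW, he⟩ := (((logSub d hd hD).ι_app_mem a)).dec d hgood hz (h hz)
      have hgW : GoodBelow d (hg.res W hWU) := fun T hT => by
        have h1 := hgood T (hT.trans hWU)
        have e : (fun i => rF hT (rF hWU (g i))) = fun i => rF (hT.trans hWU) (g i) := funext fun i => rF_rF hWU hT (g i)
        revert h1
        generalize (hg.res W hWU).res T hT = h2
        revert h2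
        rw [e]
        exact fun _ h => h
      have h1 : Dec d (hg.res W hWU) (rM (MF Ω' D) hWV ((logSub d hd hD).ι.app V (t • a))) (rF hWV t • e) := by
        rw [QCohLib.app_smul, rM_smul]
        exact he.smul d _
      have h2 := smul_oneOn_eq d hd hD (hg.res W hWU) i ((hc.res₂ d W hWU).unique d (hgood W hWU) h1 i)
      have h3 : rM (ClSub.quotMod (D i)) hWV (t • resVal d hd hD i a) =
          rM (ClSub.quotMod (D i)) hWU (c i • LogNCD.oneOn (D i) U.1) := by
        rw [rM_smul, rM_smul, oneOn_res d hd hD, h2, resVal_spec d hd hD i a W _ _ hgW hWV e he, Pi.smul_apply,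
          smul_eq_mul, mul_smul]
      have h4 := congrArg ((ClSub.quotMod (D i)).presheaf.germ W.1 z hzW) h3
      rw [TopCat.Presheaf.germ_res_apply, TopCat.Presheaf.germ_res_apply] at h4
      rw [TopCat.Presheaf.germ_res_apply]
      exact h4)
    (fun V W h a => by
      refine res_unique d hd hD i ((logSub d hd hD).ι_app_mem (rM (logSub d hd hD).toModules h a))
        (resVal_spec d hd hD i _) (fun U g hg hgood hU c hc => ?_)
      rw [show (logSub d hd hD).ι.app W (rM (logSub d hd hD).toModules h a) = rM (MF Ω' D) h ((logSub d hd hD).ι.app V a) from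
        QCohLib.app_map (logSub d hd hD).ι (homOfLE h) a, rM_rM] at hc
      rw [rM_rM]
      exact resVal_spec d hd hD i a U g hg hgood (hU.trans h) c hc)

/-- existence of the log module -/
theorem nonempty_logMod : Nonempty (LogNCD.LogMod d D) := by
  classical
  refine ⟨
    { L := (logSub d hd hD).toModules
      ι := incl d hd hD
      res := resHom d hd hD
      mono := ?_
      res_ι := fun i => ?_
      rule := fun U g hg => ?_ }⟩
  · haveI : ∀ V, Mono (((Scheme.Modules.toPresheaf X).map (incl d hd hD)).app V) := fun V =>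
      (AddCommGrpCat.mono_iff_injective _).mpr fun a b h => toMF_injective d hd hD V.unop (congrArg Subtype.val h :)
    haveI := NatTrans.mono_of_mono_app ((Scheme.Modules.toPresheaf X).map (incl d hd hD))
    exact (Scheme.Modules.toPresheaf X).mono_of_mono_map this
  · refine Scheme.Modules.hom_ext _ _ fun V => ?_
    refine ConcreteCategory.hom_ext _ _ fun ω => ?_
    show resVal d hd hD i ((incl d hd hD).app V ω) = 0
    refine res_unique d hd hD i (toMF_isLog d hd hD V ω) (resVal_spec d hd hD i ((incl d hd hD).app V ω) :)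
      (isRes_of_local d hd hD i fun p hp => ?_)
    obtain ⟨U, g, hg, hpU, hle, -, -⟩ := exists_goodBelow d hd hD hp
    refine ⟨U, g, hg, hle, 0, hpU, ⟨rM Ω' hle ω, ?_⟩, ?_⟩
    · simp only [Pi.zero_apply, zero_smul, Finset.sum_const_zero, add_zero]
      exact (QCohLib.app_map (toMF Ω' D) (homOfLE hle) ω).symm
    · rw [Pi.zero_apply, zero_smul]
      exact map_zero _
  · have hg' : IsEqn D U g := hg
    let dl : Fin r → Γ((logSub d hd hD).toModules, U.1) := fun i => (logSub d hd hD).lift (dlog d hg' i) (fun p hp => by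
      refine ⟨U, g, hg', hp, le_rfl, Pi.single i 1, 0, ?_⟩
      rw [map_zero, zero_add, Finset.sum_eq_single i]
      · rw [Pi.single_eq_same, one_smul]
        show (MF Ω' D).presheaf.map (𝟙 (op U.1)) _ = _
        rw [CategoryTheory.Functor.map_id]; rfl
      · intro j _ hj; rw [Pi.single_eq_of_ne hj, zero_smul]
      · simp)
    have hidU : ∀ σ : Γ(MF Ω' D, U.1), rM (MF Ω' D) (le_refl U.1) σ = σ := fun σ => by
      show (MF Ω' D).presheaf.map (𝟙 (op U.1)) σ = σ
      rw [CategoryTheory.Functor.map_id]; rfl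
    have hres : ∀ i j, resVal d hd hD j (dl i) = if i = j then LogNCD.oneOn (D j) U.1 else 0 := by
      intro i j
      refine res_unique d hd hD j ((logSub d hd hD).ι_app_mem (dl i)) (resVal_spec d hd hD j _)
        (isRes_of_local d hd hD j fun p hp => ?_)
      refine ⟨U, g, hg', le_rfl, Pi.single i 1, hp, ⟨0, ?_⟩, ?_⟩
      · rw [map_zero, zero_add, Finset.sum_eq_single i]
        · rw [Pi.single_eq_same, one_smul, hidU]; rfl
        · intro k _ hk; rw [Pi.single_eq_of_ne hk, zero_smul]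
        · simp
      · have hid : ∀ σ : Γ(ClSub.quotMod (D j), U.1), rM (ClSub.quotMod (D j)) (le_refl U.1) σ = σ := fun σ => by
          show (ClSub.quotMod (D j)).presheaf.map (𝟙 (op U.1)) σ = σ
          rw [CategoryTheory.Functor.map_id]; rfl
        rw [hid]
        by_cases hij : i = j
        · subst hij; rw [if_pos rfl, Pi.single_eq_same, one_smul]
        · rw [if_neg hij, Pi.single_eq_of_ne (Ne.symm hij), zero_smul]
    refine ⟨fun x hx => ?_, dl, fun i => Subtype.ext (smul_dlog d hg' i), ?_, fun i => ?_, fun i j hij => ?_⟩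
    · -- torsion-free
      refine Subtype.ext ((bijective_smul D (∏ i, g i) ?_).1 ?_)
      · intro z hz
        have hall : ∀ T : Finset (Fin r), z ∈ X.basicOpen (∏ i ∈ T, g i) := fun T => by
          induction T using Finset.induction_on with
          | empty => rw [Finset.prod_empty, Scheme.basicOpen_of_isUnit _ isUnit_one]; exact hz.1
          | insert k T hk ih => rw [Finset.prod_insert hk, Scheme.basicOpen_mul]; exact ⟨hg'.le_basicOpen k hz, ih⟩
        exact hall _
      · show (∏ i, g i) • _ = (∏ i, g i) • _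
        exact (congrArg Subtype.val hx).trans (smul_zero _).symm
    · -- generation
      rw [eq_top_iff]
      intro a _
      let a' : Γ((logSub d hd hD).toModules, U.1) := a
      choose c hc using fun i => CurvLib.unitToPush_app_surjective (D i).subschemeι U.2 (resVal d hd hD i a')
      let b : Γ(MF Ω' D, U.1) := (logSub d hd hD).ι.app U.1 a' - ∑ i, (show Γ(X, U.1) from c i) • dlog d hg' i
      have hb : ∀ p : U.1, ∃ (W : X.affineOpens) (hW : W.1 ≤ U.1) (ω : Γ(Ω', W.1)), p.1 ∈ W.1 ∧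
          (toMF Ω' D).app W.1 ω = rM (MF Ω' D) hW b := by
        intro p
        obtain ⟨U', g', hg'', hpU', hle, -, hgood⟩ := exists_goodBelow d hd hD p.2
        obtain ⟨W, hWU', hWU, e, hpW, he⟩ := (((logSub d hd hD).ι_app_mem a')).dec d hgood hpU' p.2
        have hgW : GoodBelow d (hg''.res W hWU') := fun T hT => by
          have h1 := hgood T (hT.trans hWU')
          have e : (fun i => rF hT (rF hWU' (g' i))) = fun i => rF (hT.trans hWU') (g' i) :=
            funext fun i => rF_rF hWU' hT (g' i)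
          revert h1
          generalize (hg''.res W hWU').res T hT = h2
          revert h2
          rw [e]
          exact fun _ h => h
        have hsum : Dec d (hg''.res W hWU') (rM (MF Ω' D) hWU (∑ i, (show Γ(X, U.1) from c i) • dlog d hg' i))
            (fun i => rF hWU (show Γ(X, U.1) from c i)) := by
          refine (Dec.change d (hgood W hWU')).1 (?_ : Dec d (hg'.res W hWU) _ _)
          exact Dec.res d (hg := hg') (a := ∑ i, (show Γ(X, U.1) from c i) • dlog d hg' i) (c := fun i => (show Γ(X, U.1) from c i)) ⟨0, by rw [map_zero, zero_add]⟩ W hWU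
        obtain ⟨ω, hω⟩ := he.add d (hsum.smul d (-1))
        have hdiv : ∀ i, rF hWU' (g' i) ∣ e i - rF hWU (show Γ(X, U.1) from c i) := fun i => by
          have h1 := resVal_spec d hd hD i a' W _ _ hgW hWU e he
          rw [← hc i] at h1
          have h2 : rM (ClSub.quotMod (D i)) hWU ((ClSub.unitToPush (D i).subschemeι).app U.1 (c i)) =
              (ClSub.toSubscheme (D i)).app W.1 (show Γ(Coh.structureModule X, W.1) from rF hWU (show Γ(X, U.1) from c i)) :=
            (QCohLib.app_map (ClSub.toSubscheme (D i)) (homOfLE hWU) (c i)).symm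
          rw [h2] at h1
          have h3 : e i • LogNCD.oneOn (D i) W.1 =
              (ClSub.toSubscheme (D i)).app W.1 (show Γ(Coh.structureModule X, W.1) from e i) := by
            refine (QCohLib.app_smul (ClSub.toSubscheme (D i)) W.1 (e i) _).symm.trans ?_
            congr 1
            exact mul_one (e i)
          rw [h3] at h1
          have h4 : (ClSub.toSubscheme (D i)).app W.1
              (show Γ(Coh.structureModule X, W.1) from e i - rF hWU (show Γ(X, U.1) from c i)) = 0 := by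
            refine (map_sub _ _ _).trans ?_
            rw [sub_eq_zero]; exact h1.symm
          have h5 := (IntMultLib.toSubscheme_app_eq_zero_iff (D i) W _).1 h4
          rw [hg''.res W hWU' i, Ideal.mem_span_singleton] at h5
          exact h5
        choose z hz using hdiv
        refine ⟨W, hWU, ω + ∑ i, z i • d.app W.1 (rF hWU' (g' i)), hpW, ?_⟩
        have hb' : rM (MF Ω' D) hWU b = rM (MF Ω' D) hWU ((logSub d hd hD).ι.app U.1 a') +
            (-1 : Γ(X, W.1)) • rM (MF Ω' D) hWU (∑ i, (show Γ(X, U.1) from c i) • dlog d hg' i) := by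
          rw [neg_smul, one_smul, ← sub_eq_add_neg]
          exact map_sub _ _ _
        rw [hb', hω, map_add, map_sum]
        congr 1
        refine Finset.sum_congr rfl fun i _ => ?_
        rw [QCohLib.app_smul, ← smul_dlog d (hg''.res W hWU') i, smul_smul]
        congr 1
        simp only [Pi.add_apply, Pi.smul_apply, smul_eq_mul]
        linear_combination -(hz i)
      choose W hW ω hpW hω using hb
      obtain ⟨ω₀, hω₀, -⟩ := TopCat.Sheaf.existsUnique_gluing' ⟨Ω'.presheaf, Ω'.isSheaf⟩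
        (fun p : U.1 => (W p).1) U.1 (fun p => homOfLE (hW p)) (fun x hx => Opens.mem_iSup.mpr ⟨⟨x, hx⟩, hpW ⟨x, hx⟩⟩) ω (by
          intro p p'
          change rM Ω' (inf_le_left : (W p).1 ⊓ (W p').1 ≤ (W p).1) (ω p) = rM Ω' (inf_le_right : (W p).1 ⊓ (W p').1 ≤ (W p').1) (ω p')
          refine toMF_injective d hd hD _ ?_
          rw [rM, rM, QCohLib.app_map (toMF Ω' D), QCohLib.app_map (toMF Ω' D), hω, hω]
          exact (rM_rM _ _ _ _).trans (rM_rM _ _ _ _).symm)
      have hb₀ : (toMF Ω' D).app U.1 ω₀ = b := by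
        refine TwistLib.mod_ext _ fun z hz => ?_
        let p : U.1 := ⟨z, hz⟩
        have h1 : rM (MF Ω' D) (hW p) ((toMF Ω' D).app U.1 ω₀) = rM (MF Ω' D) (hW p) b := by
          rw [← hω p, ← show rM Ω' (hW p) ω₀ = ω p from hω₀ p]
          exact (QCohLib.app_map (toMF Ω' D) (homOfLE (hW p)) ω₀).symm
        have h2 := congrArg ((MF Ω' D).presheaf.germ (W p).1 z (hpW p)) h1
        rwa [TopCat.Presheaf.germ_res_apply, TopCat.Presheaf.germ_res_apply] at h2
      have ha : a' = (incl d hd hD).app U.1 ω₀ + ∑ i, (show Γ(X, U.1) from c i) • dl i := by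
        refine (logSub d hd hD).ι_app_injective U.1 ?_
        rw [map_add, map_sum]
        show _ = (toMF Ω' D).app U.1 ω₀ + _
        rw [hb₀]
        simp only [b, QCohLib.app_smul]
        exact (sub_add_cancel _ _).symm
      show a' ∈ _
      rw [ha]
      refine Submodule.add_mem _ (Submodule.subset_span (Or.inl ⟨ω₀, rfl⟩)) (sum_mem fun i _ => ?_)
      exact Submodule.smul_mem _ (show Γ(X, U.1) from c i) (Submodule.subset_span (Or.inr ⟨i, rfl⟩))
    · exact (hres i i).trans (if_pos rfl)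
    · exact (hres i j).trans (if_neg hij)

end LogModLocLib
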