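import Groth.Prelude.Def_LogNCD
import Groth.Agent.CurvLib.Divisor
import Groth.Agent.CurvLib.EulerTensor
import Groth.Agent.IntMultLib.Cartier
import Mathlib

/-!
# Local structure of the log module
-/

set_option autoImplicit false
set_option linter.all false
set_option backward.isDefEq.respectTransparency false

universe u

open CategoryTheory CategoryTheory.Limits AlgebraicGeometry TopologicalSpace Opposite DevissLib

noncomputable section

namespace LogModLocLib

variable {X S : Scheme.{u}}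

lemma ideal_res (I : X.IdealSheafData) {V V' : X.Opens} (hV : IsAffineOpen V) (hV' : IsAffineOpen V') (h : V' ≤ V) :
    I.ideal ⟨V', hV'⟩ = (I.ideal ⟨V, hV⟩).map (X.presheaf.map (homOfLE h).op).hom :=
  (I.map_ideal' (U := ⟨V', hV'⟩) (V := ⟨V, hV⟩) (homOfLE h).op).symm

lemma ideal_top_of_disjoint (D : X.IdealSheafData) {U : X.Opens} (hU : IsAffineOpen U)
    (h : ∀ x ∈ U, x ∉ D.support) : D.ideal ⟨U, hU⟩ = ⊤ := by
  by_contra hne
  obtain ⟨P, hP, hle⟩ := Ideal.exists_le_maximal _ hne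
  let q : PrimeSpectrum Γ(X, U) := ⟨P, hP.isPrime⟩
  have hq : hU.fromSpec q ∈ U := by
    show hU.fromSpec q ∈ (U : Set X)
    rw [← hU.range_fromSpec]; exact ⟨q, rfl⟩
  refine h _ hq ?_
  have h2 : hU.fromSpec q ∈ hU.fromSpec '' PrimeSpectrum.zeroLocus (R := Γ(X, U)) (D.ideal ⟨U, hU⟩) :=
    ⟨q, hle, rfl⟩
  rw [hU.fromSpec_image_zeroLocus] at h2
  exact ((Scheme.IdealSheafData.coe_support_inter D ⟨U, hU⟩).ge h2).1

variable {r : ℕ} {D : Fin r → X.IdealSheafData}

/-- principal neighbourhoods -/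
theorem exists_principal {f : X ⟶ S} (hD : LogNCD.IsNCD D f) {O : X.Opens} {x : X} (hx : x ∈ O) :
    ∃ (U : X.affineOpens) (g : Fin r → Γ(X, U.1)), x ∈ U.1 ∧ U.1 ≤ O ∧ ∀ i, (D i).ideal U = Ideal.span {g i} := by
  classical
  by_cases h : Nonempty (LogNCD.Through D x)
  · obtain ⟨W, hxW, n, v, e, -, -, hthr, hmiss⟩ := hD x h
    obtain ⟨U, hU, hxU, hle⟩ := exists_isAffineOpen_mem_and_subset (U := W ⊓ O) (x := x) ⟨hxW, hx⟩
    replace hle : U ≤ W ⊓ O := hle
    refine ⟨⟨U, hU⟩, fun i => if hi : x ∈ (D i).support then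
      LogNCD.sectOn W (hle.trans inf_le_left) (v (ULift.up (e ⟨i, hi⟩))) else 1, hxU, hle.trans inf_le_right, fun i => ?_⟩
    by_cases hi : x ∈ (D i).support
    · beta_reduce; rw [dif_pos hi]; exact hthr ⟨i, hi⟩ ⟨U, hU⟩ (hle.trans inf_le_left)
    · beta_reduce; rw [dif_neg hi, Ideal.span_singleton_one]; exact hmiss i hi ⟨U, hU⟩ (hle.trans inf_le_left)
  · let O' : X.Opens := ⟨(⋃ j : Fin r, ((D j).support : Set X))ᶜ,
      (isClosed_iUnion_of_finite fun j => (D j).support.isClosed).isOpen_compl⟩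
    have hx' : x ∈ O' := fun h' => by
      obtain ⟨j, hj⟩ := Set.mem_iUnion.1 h'
      exact h ⟨⟨j, hj⟩⟩
    obtain ⟨U, hU, hxU, hle⟩ := exists_isAffineOpen_mem_and_subset (U := O' ⊓ O) (x := x) ⟨hx', hx⟩
    replace hle : U ≤ O' ⊓ O := hle
    exact ⟨⟨U, hU⟩, fun _ => 1, hxU, hle.trans inf_le_right, fun i => by
      rw [Ideal.span_singleton_one]
      exact ideal_top_of_disjoint _ hU fun z hz hzj => (hle hz).1 (Set.mem_iUnion.2 ⟨i, hzj⟩)⟩

/-- a germ vanishing on a closed subscheme is a multiple of the equation -/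
theorem exists_eq_mul_germ (I : X.IdealSheafData) (U : X.affineOpens) (g : Γ(X, U.1)) (hg : I.ideal U = Ideal.span {g})
    {x : X} (hx : x ∈ U.1) (c : X.presheaf.stalk x)
    (hc : c • gm (ClSub.quotMod I) x hx ((ClSub.toSubscheme I).app U.1 (show Γ(Coh.structureModule X, U.1) from (1 : Γ(X, U.1)))) = 0) :
    ∃ b, c = b * X.presheaf.germ U.1 x hx g := by
  obtain ⟨W, hxW, a, rfl⟩ := X.presheaf.exists_germ_eq (x := x) c
  obtain ⟨V₀, hV₀, hxV₀, hle₀⟩ := exists_isAffineOpen_mem_and_subset (U := W ⊓ U.1) (x := x) ⟨hxW, hx⟩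
  replace hle₀ : V₀ ≤ W ⊓ U.1 := hle₀
  let a₀ : Γ(X, V₀) := X.presheaf.map (homOfLE (hle₀.trans inf_le_left)).op a
  have h0 : gm (ClSub.quotMod I) x hxV₀ ((ClSub.toSubscheme I).app V₀ (show Γ(Coh.structureModule X, V₀) from a₀)) = 0 := by
    rw [← hc, ← gm_app, ← gm_app]
    erw [← LinearMap.map_smul]
    congr 1
    have e : (show Γ(Coh.structureModule X, V₀) from a₀) = a₀ • (show Γ(Coh.structureModule X, V₀) from (1 : Γ(X, V₀))) :=
      (mul_one a₀).symm
    rw [e, gm_smul, TopCat.Presheaf.germ_res_apply]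
    congr 1
    have e1 : (show Γ(Coh.structureModule X, V₀) from (1 : Γ(X, V₀))) = (Coh.structureModule X).presheaf.map
        (homOfLE (hle₀.trans inf_le_right)).op (show Γ(Coh.structureModule X, U.1) from (1 : Γ(X, U.1))) :=
      (map_one (X.presheaf.map (homOfLE (hle₀.trans inf_le_right)).op).hom).symm
    rw [e1, gm_map]
  obtain ⟨T, hxT, i₁, i₂, hT⟩ := TopCat.Presheaf.germ_eq (ClSub.quotMod I).presheaf x hxV₀ hxV₀ _ _
    (h0.trans (gm_zero _ x hxV₀).symm)
  obtain ⟨V, hV, hxV, hle⟩ := exists_isAffineOpen_mem_and_subset (U := T) (x := x) hxT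
  replace hle : V ≤ T := hle
  have hVV₀ : V ≤ V₀ := hle.trans i₁.le
  have hVU : V ≤ U.1 := hVV₀.trans (hle₀.trans inf_le_right)
  have hT' := congrArg ((ClSub.quotMod I).presheaf.map (homOfLE hle).op) hT
  rw [QCohLib.map_map' _ (homOfLE hle) i₁, QCohLib.map_map' _ (homOfLE hle) i₂, map_zero] at hT'
  have h1 : (ClSub.toSubscheme I).app V (show Γ(Coh.structureModule X, V) from X.presheaf.map (homOfLE hVV₀).op a₀) = 0 := by
    have := QCohLib.app_map (ClSub.toSubscheme I) (homOfLE hVV₀) (show Γ(Coh.structureModule X, V₀) from a₀)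
    exact this.trans hT'
  have h2 := (IntMultLib.toSubscheme_app_eq_zero_iff I ⟨V, hV⟩ _).1 h1
  rw [ideal_res I U.2 hV hVU, show I.ideal ⟨U.1, U.2⟩ = I.ideal U from rfl, hg, Ideal.map_span, Set.image_singleton,
    Ideal.mem_span_singleton'] at h2
  obtain ⟨b, hb⟩ := h2
  refine ⟨X.presheaf.germ V x hxV b, ?_⟩
  have h3 := congrArg (X.presheaf.germ V x hxV) hb
  simp only [a₀, map_mul] at h3
  rw [TopCat.Presheaf.germ_res_apply, TopCat.Presheaf.germ_res_apply] at h3
  exact (h3.trans (TopCat.Presheaf.germ_res_apply _ _ _ _ _)).symm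

variable {f : X ⟶ S} {Ω' : X.Modules} {d : OmegaSh.Der f Ω'}

/-- the local span -/
theorem stalk_eq (hD : LogNCD.IsNCD D f) (Λ : LogNCD.LogMod d D) (x : X) (a : (St x).obj Λ.L) :
    ∃ (U : X.affineOpens) (hx : x ∈ U.1) (g : Fin r → Γ(X, U.1)) (dl : Fin r → Γ(Λ.L, U.1))
      (ω : (St x).obj Ω') (c : Fin r → X.presheaf.stalk x),
      (∀ i, (D i).ideal U = Ideal.span {g i}) ∧
      (∀ i, g i • dl i = Λ.ι.app U.1 (d.app U.1 (g i))) ∧
      (∀ i, (Λ.res i).app U.1 (dl i) = LogNCD.oneOn (D i) U.1) ∧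
      (∀ i j, i ≠ j → (Λ.res j).app U.1 (dl i) = 0) ∧
      a = ((St x).map Λ.ι).hom ω + ∑ i, c i • gm Λ.L x hx (dl i) := by
  classical
  obtain ⟨O, hxO, t, rfl⟩ := exists_gm_eq Λ.L x a
  obtain ⟨U, g, hxU, hUO, hg⟩ := exists_principal hD hxO
  obtain ⟨-, dl, h1, h2, h3, h4⟩ := Λ.rule U g hg
  have ht : ∀ s : Λ.L.val.obj (op U.1), ∃ (ω : (St x).obj Ω') (c : Fin r → X.presheaf.stalk x),
      gm Λ.L x hxU s = ((St x).map Λ.ι).hom ω + ∑ i, c i • gm Λ.L x hxU (dl i) := by
    intro s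
    have hs : s ∈ (⊤ : Submodule Γ(X, U.1) (Λ.L.val.obj (op U.1))) := trivial
    rw [← h2] at hs
    induction hs using Submodule.span_induction with
    | mem s hs =>
      rcases hs with ⟨w, rfl⟩ | ⟨i, rfl⟩
      · exact ⟨gm Ω' x hxU w, 0, by simp only [Pi.zero_apply, zero_smul, Finset.sum_const_zero, add_zero, gm_app]; rfl⟩
      · exact ⟨0, Pi.single i 1, by simp [Pi.single_apply, ite_smul]⟩
    | zero => exact ⟨0, 0, by simp⟩
    | add s s' _ _ hs hs' =>
      obtain ⟨ω, c, hc⟩ := hs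
      obtain ⟨ω', c', hc'⟩ := hs'
      refine ⟨ω + ω', c + c', ?_⟩
      rw [show gm Λ.L x hxU (s + s') = gm Λ.L x hxU s + gm Λ.L x hxU s' from map_add _ _ _, hc, hc', map_add]
      simp only [Pi.add_apply, add_smul, Finset.sum_add_distrib]
      abel
    | smul p s _ hs =>
      obtain ⟨ω, c, hc⟩ := hs
      refine ⟨X.presheaf.germ U.1 x hxU p • ω, fun i => X.presheaf.germ U.1 x hxU p * c i, ?_⟩
      rw [show gm Λ.L x hxU (p • s) = _ from gm_smul Λ.L x hxU p s, hc, smul_add, map_smul, Finset.smul_sum]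
      simp only [mul_smul]
  obtain ⟨ω, c, hc⟩ := ht (Λ.L.presheaf.map (homOfLE hUO).op t)
  exact ⟨U, hxU, g, dl, ω, c, hg, h1, h3, h4, by rw [← hc, gm_map]⟩

theorem exists_gm_smul_one {x : X} {O U : X.Opens} (hxO : x ∈ O) (t : Γ(Coh.structureModule X, O)) (hxU : x ∈ U) :
    ∃ c : X.presheaf.stalk x, gm (Coh.structureModule X) x hxO t =
      c • gm (Coh.structureModule X) x hxU (show Γ(Coh.structureModule X, U) from (1 : Γ(X, U))) := by
  let V := O ⊓ U
  refine ⟨X.presheaf.germ V x ⟨hxO, hxU⟩ (X.presheaf.map (homOfLE (inf_le_left : V ≤ O)).op (show Γ(X, O) from t)), ?_⟩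
  rw [← gm_map (Coh.structureModule X) (inf_le_left : V ≤ O) x ⟨hxO, hxU⟩ t,
    ← gm_map (Coh.structureModule X) (inf_le_right : V ≤ U) x ⟨hxO, hxU⟩, ← gm_smul]
  refine congrArg (gm (Coh.structureModule X) x _) ?_
  show X.presheaf.map (homOfLE (inf_le_left : V ≤ O)).op (show Γ(X, O) from t) =
    X.presheaf.map (homOfLE (inf_le_left : V ≤ O)).op (show Γ(X, O) from t) * X.presheaf.map (homOfLE (inf_le_right : V ≤ U)).op (1 : Γ(X, U))
  rw [map_one, mul_one]

theorem pi_decomp {r : ℕ} (F : Fin r → X.Modules) :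
    𝟙 (∏ᶜ F) = ∑ i, Pi.π F i ≫ Pi.lift (fun j => if h : i = j then eqToHom (by rw [h]) else 0) := by
  classical
  refine Pi.hom_ext _ _ fun j => ?_
  rw [Preadditive.sum_comp, Category.id_comp]
  simp only [Category.assoc, Pi.lift_π]
  rw [Finset.sum_eq_single j]
  · simp
  · intro b _ hb; simp [hb]
  · simp

theorem pi_ext {r : ℕ} (F : Fin r → X.Modules) (x : X) (a b : (St x).obj (∏ᶜ F))
    (h : ∀ i, ((St x).map (Pi.π F i)).hom a = ((St x).map (Pi.π F i)).hom b) : a = b := by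
  classical
  have e := congrArg (fun φ => (St x).map φ) (pi_decomp F)
  simp only [CategoryTheory.Functor.map_id, Functor.map_sum, Functor.map_comp] at e
  have ha : ∀ z : (St x).obj (∏ᶜ F), z = ∑ i, ((St x).map (Pi.lift (fun j => if h : i = j then eqToHom (by rw [h]) else 0))).hom
      (((St x).map (Pi.π F i)).hom z) := fun z => by
    have := congrArg (fun φ : (St x).obj (∏ᶜ F) ⟶ (St x).obj (∏ᶜ F) => φ.hom z) e
    simp only [ModuleCat.hom_sum, LinearMap.sum_apply, ModuleCat.hom_comp, LinearMap.comp_apply] at this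
    exact this
  rw [ha a, ha b]
  simp only [h]

/-- `0 → Ω' → Ω'(log D) → ⊕ O_D → 0` is exact -/
theorem shortExact (hD : LogNCD.IsNCD D f) (Λ : LogNCD.LogMod d D) (h : Λ.ι ≫ Pi.lift Λ.res = 0) :
    (ShortComplex.mk Λ.ι (Pi.lift Λ.res) h).ShortExact := by
  classical
  haveI := Λ.mono
  haveI : Epi (Pi.lift Λ.res) := by
    refine Abelian.epi_of_cokernel_π_eq_zero _ ((isZero_of_support_empty
      (Set.eq_empty_of_forall_notMem fun x => notMem_support_cokernel _ x ?_)).eq_of_tgt _ _)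
    intro b
    have hb : ∀ i, ∃ z : (St x).obj Λ.L,
        ((St x).map (Λ.res i)).hom z = ((St x).map (Pi.π _ i)).hom b ∧
          ∀ j, i ≠ j → ((St x).map (Λ.res j)).hom z = 0 := by
      intro i
      obtain ⟨U, g, hxU, -, hg⟩ := exists_principal hD (O := (⊤ : X.Opens)) (x := x) trivial
      obtain ⟨-, dl, -, -, h3, h4⟩ := Λ.rule U g hg
      haveI : Epi ((St x).map (ClSub.toSubscheme (D i))) := by
        haveI := CurvLib.epi_toSubscheme (D i)
        infer_instance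
      obtain ⟨w, hw⟩ := (ModuleCat.epi_iff_surjective _).1 this (((St x).map (Pi.π _ i)).hom b)
      obtain ⟨O, hxO, t, rfl⟩ := exists_gm_eq (Coh.structureModule X) x w
      obtain ⟨c, ht⟩ := exists_gm_smul_one hxO t hxU
      refine ⟨c • gm Λ.L x hxU (dl i), ?_, fun j hij => ?_⟩
      · rw [map_smul, gm_app, ← hw, ht, map_smul, gm_app]
        exact congrArg (fun q => c • gm (ClSub.quotMod (D i)) x hxU q) (h3 i)
      · rw [map_smul, gm_app, show (Λ.res j).app U.1 (dl i) = 0 from h4 i j hij, gm_zero]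
        exact smul_zero (M := X.presheaf.stalk x) _
    choose z hz hz' using hb
    refine ⟨∑ i, z i, pi_ext _ x _ _ fun j => ?_⟩
    show ((St x).map (Pi.lift Λ.res) ≫ (St x).map (Pi.π _ j)).hom _ = _
    rw [← Functor.map_comp, Pi.lift_π, map_sum, Finset.sum_eq_single j]
    · exact hz j
    · intro i _ hi; exact hz' i j hi
    · simp
  refine CurvLib.shortExact_of_stalks _ fun x => ?_
  refine { exact := ?_, mono_f := inferInstanceAs (Mono ((St x).map Λ.ι)), epi_g := inferInstanceAs (Epi ((St x).map (Pi.lift Λ.res))) }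
  rw [ShortComplex.moduleCat_exact_iff]
  intro a (ha : ((St x).map (Pi.lift Λ.res)).hom a = 0)
  obtain ⟨U, hxU, g, dl, ω, c, hg, h1, h3, h4, rfl⟩ := stalk_eq hD Λ x a
  have hj : ∀ j, ∃ w : (St x).obj Ω', ((St x).map Λ.ι).hom w = c j • gm Λ.L x hxU (dl j) := by
    intro j
    have h0 : ((St x).map (Λ.res j)).hom (((St x).map Λ.ι).hom ω + ∑ i, c i • gm Λ.L x hxU (dl i)) = 0 := by
      rw [← Pi.lift_π Λ.res j, Functor.map_comp]
      show ((St x).map (Pi.π _ j)).hom (((St x).map (Pi.lift Λ.res)).hom _) = 0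
      rw [ha, map_zero]
    have hι : ((St x).map (Λ.res j)).hom (((St x).map Λ.ι).hom ω) = 0 := by
      show ((St x).map Λ.ι ≫ (St x).map (Λ.res j)).hom ω = 0
      rw [← Functor.map_comp, Λ.res_ι, Functor.map_zero]
      rfl
    rw [map_add, hι, zero_add, map_sum, Finset.sum_eq_single j] at h0
    · rw [map_smul, gm_app, show (Λ.res j).app U.1 (dl j) = _ from h3 j] at h0
      obtain ⟨b, hb⟩ := exists_eq_mul_germ (D j) U (g j) (hg j) hxU (c j) h0
      refine ⟨b • gm Ω' x hxU (d.app U.1 (g j)), ?_⟩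
      rw [map_smul, gm_app, ← h1 j, gm_smul, smul_smul, ← hb]
    · intro i _ hi
      rw [map_smul, gm_app, show (Λ.res j).app U.1 (dl i) = 0 from h4 i j hi, gm_zero]
      exact smul_zero (M := X.presheaf.stalk x) _
    · intro h; exact absurd (Finset.mem_univ j) h
  choose w hw using hj
  refine ⟨ω + ∑ j, w j, ?_⟩
  show ((St x).map Λ.ι).hom _ = _
  rw [map_add, map_sum, Finset.sum_congr rfl fun j _ => hw j]

end LogModLocLib
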