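import Groth.Agent.LogModLocLib.Basis
import Groth.Agent.QCohLib.LocSub
import Groth.Agent.QCohLib.Vanishing
import Groth.Agent.QCohLib.Affine
import Mathlib

/-!
# Meromorphic forms and logarithmic decompositions
-/

set_option autoImplicit false
set_option linter.all false
set_option backward.isDefEq.respectTransparency false

universe u

open CategoryTheory CategoryTheory.Limits AlgebraicGeometry TopologicalSpace Opposite

noncomputable section

namespace LogModLocLib

variable {X S : Scheme.{u}} {r : ℕ}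

/-- the complement of the divisor -/
def U₀ (D : Fin r → X.IdealSheafData) : X.Opens :=
  ⟨(⋃ j : Fin r, ((D j).support : Set X))ᶜ, (isClosed_iUnion_of_finite fun j => (D j).support.isClosed).isOpen_compl⟩

/-- forms on the complement -/
def MF (M : X.Modules) (D : Fin r → X.IdealSheafData) : X.Modules :=
  (Scheme.Modules.pushforward (U₀ D).ι).obj ((Scheme.Modules.restrictFunctor (U₀ D).ι).obj M)

/-- restriction to the complement -/
def toMF (M : X.Modules) (D : Fin r → X.IdealSheafData) : M ⟶ MF M D :=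
  (Scheme.Modules.restrictAdjunction (U₀ D).ι).unit.app M

/-- the restriction of functions -/
abbrev rF {V W : X.Opens} (h : V ≤ W) : Γ(X, W) →+* Γ(X, V) := (X.presheaf.map (homOfLE h).op).hom

/-- the restriction of sections -/
abbrev rM (M : X.Modules) {V W : X.Opens} (h : V ≤ W) (σ : Γ(M, W)) : Γ(M, V) := M.presheaf.map (homOfLE h).op σ

lemma rM_rM (M : X.Modules) {U V W : X.Opens} (h : V ≤ W) (h' : U ≤ V) (σ : Γ(M, W)) :
    rM M h' (rM M h σ) = rM M (h'.trans h) σ := QCohLib.map_map' M (homOfLE h') (homOfLE h) σ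

lemma rF_rF {U V W : X.Opens} (h : V ≤ W) (h' : U ≤ V) (a : Γ(X, W)) : rF h' (rF h a) = rF (h'.trans h) a := by
  show (X.presheaf.map _ ≫ X.presheaf.map _) a = _
  rw [← Functor.map_comp]; rfl

lemma rM_smul (M : X.Modules) {V W : X.Opens} (h : V ≤ W) (c : Γ(X, W)) (σ : Γ(M, W)) :
    rM M h (c • σ) = rF h c • rM M h σ := QCohLib.map_smul' M (homOfLE h) c σ

variable {Ω' : X.Modules}

lemma image_le (D : Fin r → X.IdealSheafData) (U : X.Opens) :
    (U₀ D).ι ''ᵁ ((U₀ D).ι ⁻¹ᵁ U) ≤ U ⊓ U₀ D := by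
  rw [Scheme.Hom.image_preimage_eq_opensRange_inf, Scheme.Opens.opensRange_ι, inf_comm]

lemma bijective_smul (D : Fin r → X.IdealSheafData) {U : X.Opens} (c : Γ(X, U)) (h : U ⊓ U₀ D ≤ X.basicOpen c) :
    Function.Bijective (fun y : Γ(MF Ω' D, U) => c • y) := by
  have hu : IsUnit ((U₀ D).ι.app U c) := by
    rw [Scheme.Opens.ι_app]
    exact QCohLib.isUnit_res c ((image_le D U).trans h)
  obtain ⟨v, hv⟩ := hu
  have e : ∀ y : Γ(MF Ω' D, U), c • y =
      ((U₀ D).ι.app U c) • (show Γ((Scheme.Modules.restrictFunctor (U₀ D).ι).obj Ω', (U₀ D).ι ⁻¹ᵁ U) from y) :=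
    fun y => rfl
  simp only [e, ← hv]
  exact MulAction.bijective (β := Γ((Scheme.Modules.restrictFunctor (U₀ D).ι).obj Ω', (U₀ D).ι ⁻¹ᵁ U)) v

/-- the equations of the components on an affine open -/
def IsEqn (D : Fin r → X.IdealSheafData) (U : X.affineOpens) (g : Fin r → Γ(X, U.1)) : Prop :=
  ∀ i, (D i).ideal U = Ideal.span {g i}

variable {D : Fin r → X.IdealSheafData}

lemma IsEqn.res {U : X.affineOpens} {g : Fin r → Γ(X, U.1)} (hg : IsEqn D U g) (V : X.affineOpens) (h : V.1 ≤ U.1) :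
    IsEqn D V fun i => rF h (g i) := fun i => by
  rw [show (D i).ideal V = _ from ideal_res (D i) U.2 V.2 h, show (D i).ideal ⟨U.1, U.2⟩ = _ from hg i,
    Ideal.map_span, Set.image_singleton]

lemma IsEqn.le_basicOpen {U : X.affineOpens} {g : Fin r → Γ(X, U.1)} (hg : IsEqn D U g) (i : Fin r) :
    U.1 ⊓ U₀ D ≤ X.basicOpen (g i) := by
  intro z hz
  by_contra hzb
  refine hz.2 (Set.mem_iUnion.2 ⟨i, ?_⟩)
  have h : z ∈ X.zeroLocus (U := U.1) ((D i).ideal U) ∩ (U.1 : Set X) := by
    refine ⟨(X.mem_zeroLocus_iff _ _).2 fun a ha => ?_, hz.1⟩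
    rw [hg i, SetLike.mem_coe, Ideal.mem_span_singleton'] at ha
    obtain ⟨b, rfl⟩ := ha
    rw [Scheme.basicOpen_mul]
    exact fun h => hzb h.2
  rw [← Scheme.IdealSheafData.coe_support_inter] at h
  exact h.1

variable {f : X ⟶ S} (d : OmegaSh.Der f Ω')

/-- the logarithmic differential of an equation -/
def dlog {U : X.affineOpens} {g : Fin r → Γ(X, U.1)} (hg : IsEqn D U g) (i : Fin r) : Γ(MF Ω' D, U.1) :=
  ((bijective_smul D (g i) (hg.le_basicOpen i)).2 ((toMF Ω' D).app U.1 (d.app U.1 (g i)))).choose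

lemma smul_dlog {U : X.affineOpens} {g : Fin r → Γ(X, U.1)} (hg : IsEqn D U g) (i : Fin r) :
    g i • dlog d hg i = (toMF Ω' D).app U.1 (d.app U.1 (g i)) :=
  ((bijective_smul D (g i) (hg.le_basicOpen i)).2 ((toMF Ω' D).app U.1 (d.app U.1 (g i)))).choose_spec

lemma rM_dlog {U : X.affineOpens} {g : Fin r → Γ(X, U.1)} (hg : IsEqn D U g) (V : X.affineOpens) (h : V.1 ≤ U.1)
    (i : Fin r) : rM (MF Ω' D) h (dlog d hg i) = dlog d (hg.res V h) i := by
  refine (bijective_smul D _ ((hg.res V h).le_basicOpen i)).1 ?_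
  refine ((rM_smul _ h _ _).symm.trans ?_).trans (smul_dlog d (hg.res V h) i).symm
  rw [smul_dlog d hg i, OmegaAffLib.der_rs d h (g i)]
  exact (QCohLib.app_map (toMF Ω' D) (homOfLE h) (d.app U.1 (g i))).symm

/-- a decomposition with given coefficients -/
def Dec {U : X.affineOpens} {g : Fin r → Γ(X, U.1)} (hg : IsEqn D U g) (a : Γ(MF Ω' D, U.1))
    (c : Fin r → Γ(X, U.1)) : Prop :=
  ∃ ω : Γ(Ω', U.1), a = (toMF Ω' D).app U.1 ω + ∑ i, c i • dlog d hg i

lemma Dec.add {U : X.affineOpens} {g : Fin r → Γ(X, U.1)} {hg : IsEqn D U g} {a b : Γ(MF Ω' D, U.1)}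
    {c e : Fin r → Γ(X, U.1)} (ha : Dec d hg a c) (hb : Dec d hg b e) : Dec d hg (a + b) (c + e) := by
  obtain ⟨ω, rfl⟩ := ha
  obtain ⟨ω', rfl⟩ := hb
  refine ⟨ω + ω', ?_⟩
  simp only [map_add, Pi.add_apply, add_smul, Finset.sum_add_distrib]
  abel

lemma Dec.smul {U : X.affineOpens} {g : Fin r → Γ(X, U.1)} {hg : IsEqn D U g} {a : Γ(MF Ω' D, U.1)}
    {c : Fin r → Γ(X, U.1)} (ha : Dec d hg a c) (t : Γ(X, U.1)) : Dec d hg (t • a) (t • c) := by
  obtain ⟨ω, rfl⟩ := ha
  refine ⟨t • ω, ?_⟩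
  rw [smul_add, Finset.smul_sum, QCohLib.app_smul]
  simp only [Pi.smul_apply, smul_eq_mul, mul_smul]

lemma Dec.res {U : X.affineOpens} {g : Fin r → Γ(X, U.1)} {hg : IsEqn D U g} {a : Γ(MF Ω' D, U.1)}
    {c : Fin r → Γ(X, U.1)} (ha : Dec d hg a c) (V : X.affineOpens) (h : V.1 ≤ U.1) :
    Dec d (hg.res V h) (rM (MF Ω' D) h a) fun i => rF h (c i) := by
  obtain ⟨ω, rfl⟩ := ha
  refine ⟨rM Ω' h ω, ?_⟩
  rw [rM, map_add, map_sum]
  congr 1
  · exact (QCohLib.app_map (toMF Ω' D) (homOfLE h) ω).symm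
  · refine Finset.sum_congr rfl fun i _ => ?_
    exact (rM_smul _ h (c i) _).trans (congrArg (_ • ·) (rM_dlog d hg V h i))

/-- good equations: regular, with independent logarithmic differentials -/
def Good {U : X.affineOpens} {g : Fin r → Γ(X, U.1)} (hg : IsEqn D U g) : Prop :=
  (∀ i (a : Γ(X, U.1)), g i * a = 0 → a = 0) ∧ ∀ c, Dec d hg 0 c → ∀ i, g i ∣ c i

/-- coefficients do not depend on the equations -/
lemma Dec.change {U : X.affineOpens} {g g' : Fin r → Γ(X, U.1)} {hg : IsEqn D U g} (hgood : Good d hg)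
    {hg' : IsEqn D U g'} {a : Γ(MF Ω' D, U.1)} {c : Fin r → Γ(X, U.1)} : Dec d hg' a c ↔ Dec d hg a c := by
  have key : ∀ i, ∃ ω : Γ(Ω', U.1), dlog d hg' i = dlog d hg i + (toMF Ω' D).app U.1 ω := by
    intro i
    have h1 : g' i ∈ Ideal.span ({g i} : Set Γ(X, U.1)) := hg i ▸ (hg' i).ge (Ideal.mem_span_singleton_self _)
    have h2 : g i ∈ Ideal.span ({g' i} : Set Γ(X, U.1)) := hg' i ▸ (hg i).ge (Ideal.mem_span_singleton_self _)
    rw [Ideal.mem_span_singleton'] at h1 h2
    obtain ⟨v, hv⟩ := h1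
    obtain ⟨v', hv'⟩ := h2
    have hvv : v' * v = 1 := by
      have : g i * (1 - v' * v) = 0 := by linear_combination (-1 : Γ(X, U.1)) * hv' - v' * hv
      exact (sub_eq_zero.1 (hgood.1 i _ this)).symm
    refine ⟨v' • d.app U.1 v, (bijective_smul D _ (hg'.le_basicOpen i)).1 ?_⟩
    show g' i • _ = g' i • _
    rw [smul_add, smul_dlog, ← QCohLib.app_smul, ← hv, OmegaAffLib.der_mul, map_add, QCohLib.app_smul, ← smul_dlog d hg i,
      smul_smul, smul_smul, QCohLib.app_smul, QCohLib.app_smul]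
    congr 2
    linear_combination -(g i) * hvv
  choose ω hω using key
  have hsum : ∑ i, c i • dlog d hg' i = ∑ i, c i • dlog d hg i + (toMF Ω' D).app U.1 (∑ i, c i • ω i) := by
    rw [map_sum, ← Finset.sum_add_distrib]
    exact Finset.sum_congr rfl fun i _ => by rw [hω i, smul_add, QCohLib.app_smul]
  constructor
  · rintro ⟨η, rfl⟩
    refine ⟨η + ∑ i, c i • ω i, ?_⟩
    rw [hsum, map_add]; abel
  · rintro ⟨η, rfl⟩
    refine ⟨η - ∑ i, c i • ω i, ?_⟩
    rw [hsum, map_sub]; abel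

/-- the coefficient modulo the equation is unique -/
lemma Dec.unique {U : X.affineOpens} {g : Fin r → Γ(X, U.1)} {hg : IsEqn D U g} (hgood : Good d hg)
    {a : Γ(MF Ω' D, U.1)} {c e : Fin r → Γ(X, U.1)} (hc : Dec d hg a c) (he : Dec d hg a e) (i : Fin r) :
    g i ∣ c i - e i := by
  have h := hc.add d (he.smul d (-1))
  have h0 : a + (-1 : Γ(X, U.1)) • a = 0 := by rw [neg_smul, one_smul, add_neg_cancel]
  rw [h0] at h
  have := hgood.2 _ h i
  simpa [sub_eq_add_neg] using this

/-- existence of good charts -/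
theorem exists_good [Smooth f] (hd : OmegaSh.IsUniversal d) (hD : LogNCD.IsNCD D f) {O : X.Opens} {x : X} (hx : x ∈ O) :
    ∃ (U : X.affineOpens) (g : Fin r → Γ(X, U.1)) (hg : IsEqn D U g), x ∈ U.1 ∧ U.1 ≤ O ∧
      Function.Injective ((toMF Ω' D).app U.1) ∧
      ∀ (V : X.affineOpens) (h : V.1 ≤ U.1), Good d (hg.res V h) ∧ Function.Injective ((toMF Ω' D).app V.1) := by
  classical
  obtain ⟨V₀, hV₀, U, h, n, w, e, hxU, hUO, he, hw, h₁, h₂⟩ := exists_chart hD hx
  let g : Fin r → Γ(X, U.1) := fun i => if hi : x ∈ (D i).support then w (e ⟨i, hi⟩) else 1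
  have hg : IsEqn D U g := fun i => by
    by_cases hi : x ∈ (D i).support
    · simp only [g, dif_pos hi]; exact h₁ ⟨i, hi⟩
    · simp only [g, dif_neg hi, Ideal.span_singleton_one]; exact h₂ i hi
  suffices key : ∀ (V : X.affineOpens) (hVU : V.1 ≤ U.1), Good d (hg.res V hVU) ∧ Function.Injective ((toMF Ω' D).app V.1) from
    ⟨U, g, hg, hxU, hUO, (key U le_rfl).2, key⟩
  intro V hVU
  have hwV : (coordHom f V₀ V.1 (hVU.trans h) fun i => rF hVU (w i)).Etale := by
    have hres : (X.presheaf.map (homOfLE hVU).op).hom.Etale := by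
      have h := HasRingHomProperty.appLE @Etale (𝟙 X) inferInstance U V hVU
      simpa [Scheme.Hom.appLE] using h
    refine (congrArg RingHom.Etale ?_).mp (RingHom.Etale.stableUnderComposition _ _ hw hres)
    refine MvPolynomial.ringHom_ext (fun a => ?_) (fun i => ?_)
    · simp only [coordHom, RingHom.comp_apply, MvPolynomial.eval₂Hom_C]
      rw [← CommRingCat.comp_apply, Scheme.Hom.appLE_map]
    · simp only [coordHom, RingHom.comp_apply, MvPolynomial.eval₂Hom_X']
  obtain ⟨b, hb⟩ := exists_omega_basis hd hV₀ V.2 (hVU.trans h) _ hwV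
  let gV : Fin r → Γ(X, V.1) := fun i => rF hVU (g i)
  have hgV : IsEqn D V gV := hg.res V hVU
  have hreg : ∀ i (a : Γ(X, V.1)), gV i * a = 0 → a = 0 := fun i a ha => by
    by_cases hi : x ∈ (D i).support
    · refine coord_regular _ hwV (e ⟨i, hi⟩) a ?_
      simp only [coordHom, MvPolynomial.eval₂Hom_X']
      simpa only [gV, g, dif_pos hi] using ha
    · simpa only [gV, g, dif_neg hi, map_one, one_mul] using ha
  have hprod : ∀ (T : Finset (Fin r)) (z : Γ(X, V.1)), z * ∏ k ∈ T, gV k = 0 → z = 0 := fun T => by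
    induction T using Finset.induction_on with
    | empty => intro z hz; simpa using hz
    | insert k T hk ih =>
      intro z hz
      rw [Finset.prod_insert hk, ← mul_assoc] at hz
      exact hreg k z (by rw [mul_comm]; exact ih _ hz)
  let G := ∏ k, gV k
  have hinj : Function.Injective ((toMF Ω' D).app V.1) := by
    rw [injective_iff_map_eq_zero]
    intro z hz
    haveI := OmegaAffLib.isQCoh_of_isUniversal hd
    have hle : X.basicOpen G ≤ (U₀ D).ι ''ᵁ ((U₀ D).ι ⁻¹ᵁ V.1) := by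
      intro p hp
      rw [Scheme.Hom.image_preimage_eq_opensRange_inf, Scheme.Opens.opensRange_ι]
      refine ⟨fun hmem => ?_, X.basicOpen_le G hp⟩
      obtain ⟨i, hi⟩ := Set.mem_iUnion.1 hmem
      have h3 : p ∈ ((D i).support : Set X) ∩ (V.1 : Set X) := ⟨hi, X.basicOpen_le G hp⟩
      rw [Scheme.IdealSheafData.coe_support_inter (D i) V, hgV i] at h3
      refine (X.mem_zeroLocus_iff _ _).1 h3.1 (gV i) (Ideal.mem_span_singleton_self _) ?_
      rw [show G = gV i * ∏ k ∈ Finset.univ.erase i, gV k from (Finset.mul_prod_erase _ _ (Finset.mem_univ i)).symm,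
        Scheme.basicOpen_mul] at hp
      exact hp.1
    have h0 : rM Ω' ((image_le D V.1).trans inf_le_left) z = 0 := hz
    have h1 : rM Ω' (X.basicOpen_le G) z = 0 := by
      rw [← rM_rM Ω' ((image_le D V.1).trans inf_le_left) hle, h0]
      exact map_zero _
    obtain ⟨m, hm⟩ := (QCohLib.localizingAt_of_isQCoh V.2 Ω' G).eq_zero z h1
    apply b.repr.injective
    ext j
    have h2 : G ^ m * b.repr z j = 0 := by
      have := congrArg (fun t => b.repr t j) hm
      simpa using this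
    have hpow : ∀ (m : ℕ) (a : Γ(X, V.1)), G ^ m * a = 0 → a = 0 := fun m => by
      induction m with
      | zero => intro a ha; simpa using ha
      | succ m ih => intro a ha; exact hprod _ a (by rw [mul_comm]; exact ih _ (by rw [pow_succ, mul_assoc] at ha; exact ha) : _)
    rw [map_zero, Finsupp.zero_apply]
    exact hpow m _ h2
  refine ⟨⟨hreg, ?_⟩, hinj⟩
  rintro c ⟨ω, hω⟩ i
  by_cases hi : x ∈ (D i).support
  swap
  · simp only [g, dif_neg hi, map_one]; exact one_dvd _
  let Gk : Fin r → Γ(X, V.1) := fun k => ∏ l ∈ Finset.univ.erase k, gV l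
  have h0 : (toMF Ω' D).app V.1 (G • ω + ∑ k, (c k * Gk k) • d.app V.1 (gV k)) = 0 := by
    have h := congrArg (G • ·) hω
    rw [smul_zero, smul_add, Finset.smul_sum, ← QCohLib.app_smul] at h
    rw [map_add, map_sum, h]
    congr 1
    refine Finset.sum_congr rfl fun k _ => ?_
    rw [QCohLib.app_smul, ← smul_dlog d hgV k, smul_smul, smul_smul]
    congr 1
    rw [show G = gV k * Gk k from (Finset.mul_prod_erase _ _ (Finset.mem_univ k)).symm]
    ring
  have h1 := congrArg (fun t => b.repr t (e ⟨i, hi⟩)) (hinj (h0.trans (map_zero _).symm))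
  simp only [map_add, map_sum, map_smul, map_zero, Finsupp.add_apply, Finsupp.zero_apply, Finsupp.finsetSum_apply,
    Finsupp.smul_apply, smul_eq_mul] at h1
  rw [Finset.sum_eq_single i] at h1
  · rw [show d.app V.1 (gV i) = b (e ⟨i, hi⟩) by simp only [gV, g, dif_pos hi, hb], b.repr_self, Finsupp.single_eq_same,
      show G = gV i * Gk i from (Finset.mul_prod_erase _ _ (Finset.mem_univ i)).symm] at h1
    refine ⟨-(b.repr ω (e ⟨i, hi⟩)), ?_⟩
    have h2 : (c i + gV i * b.repr ω (e ⟨i, hi⟩)) * Gk i = 0 := by linear_combination h1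
    linear_combination hprod _ _ h2
  · intro k _ hk
    by_cases hk' : x ∈ (D k).support
    · rw [show d.app V.1 (gV k) = b (e ⟨k, hk'⟩) by simp only [gV, g, dif_pos hk', hb], b.repr_self,
        Finsupp.single_eq_of_ne (fun h => hk (congrArg Subtype.val (he h)).symm), mul_zero]
    · have : d.app V.1 (gV k) = 0 := by
        simp only [gV, g, dif_neg hk', map_one]
        have := OmegaAffLib.der_mul d V.1 1 1
        rw [mul_one, one_smul, left_eq_add] at this
        exact this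
      rw [this, map_zero, Finsupp.zero_apply, mul_zero]
  · simp

end LogModLocLib
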