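import Groth.Agent.LogModLocLib.Construct
import Mathlib

/-!
# The log module of a sub-family
-/

set_option autoImplicit false
set_option linter.all false
set_option backward.isDefEq.respectTransparency false

universe u

open CategoryTheory CategoryTheory.Limits AlgebraicGeometry TopologicalSpace Opposite DevissLib

noncomputable section

namespace LogModLocLib

variable {X S : Scheme.{u}} {r : ℕ} {D : Fin (r + 1) → X.IdealSheafData} {f : X ⟶ S} {Ω' : X.Modules}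
  {d : OmegaSh.Der f Ω'} {i : Fin (r + 1)}

/-- the defining relation of the comparison map -/
def SubRel (Λ : LogNCD.LogMod d D) (Λ' : LogNCD.LogMod d (D ∘ i.succAbove)) {V : X.Opens}
    (a : Γ(Λ'.L, V)) (y : Γ(Λ.L, V)) : Prop :=
  ∀ (U : X.affineOpens) (g : Fin (r + 1) → Γ(X, U.1)), IsEqn D U g → ∀ (h : U.1 ≤ V) (ω : Γ(Ω', U.1)),
    (∏ j, g j) • rM Λ'.L h a = Λ'.ι.app U.1 ω → (∏ j, g j) • rM Λ.L h y = Λ.ι.app U.1 ω

variable (hD : LogNCD.IsNCD D f) (Λ : LogNCD.LogMod d D) (Λ' : LogNCD.LogMod d (D ∘ i.succAbove))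

lemma torsionFree {U : X.affineOpens} {g : Fin (r + 1) → Γ(X, U.1)} (hg : IsEqn D U g) (s t : Γ(Λ.L, U.1))
    (h : (∏ j, g j) • s = (∏ j, g j) • t) : s = t := by
  have := (Λ.rule U g hg).1 (s - t) (by
    show (∏ j, g j) • (s - t) = (0 : Γ(Λ.L, U.1))
    rw [smul_sub, h, sub_self])
  exact sub_eq_zero.1 this

/-- the two modules agree after clearing denominators -/
lemma exists_clear {U : X.affineOpens} {g : Fin (r + 1) → Γ(X, U.1)} (hg : IsEqn D U g) (a : Γ(Λ'.L, U.1)) :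
    ∃ (ω : Γ(Ω', U.1)) (y : Γ(Λ.L, U.1)),
      (∏ j, g j) • a = Λ'.ι.app U.1 ω ∧ (∏ j, g j) • y = Λ.ι.app U.1 ω := by
  classical
  obtain ⟨-, dl, hdl, -, -, -⟩ := Λ.rule U g hg
  obtain ⟨-, dl', hdl', hspan', -, -⟩ := Λ'.rule U (g ∘ i.succAbove) fun k => hg (i.succAbove k)
  suffices h : ∀ a : Λ'.L.val.obj (op U.1), ∃ (ω : Γ(Ω', U.1)) (y : Γ(Λ.L, U.1)),
      (∏ j, g j) • (show Γ(Λ'.L, U.1) from a) = Λ'.ι.app U.1 ω ∧ (∏ j, g j) • y = Λ.ι.app U.1 ω from h a
  intro a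
  have ha : a ∈ (⊤ : Submodule Γ(X, U.1) (Λ'.L.val.obj (op U.1))) := trivial
  rw [← hspan'] at ha
  induction ha using Submodule.span_induction with
  | mem z hz =>
    rcases hz with ⟨w, rfl⟩ | ⟨k, rfl⟩
    · exact ⟨(∏ j, g j) • (show Γ(Ω', U.1) from w), (∏ j, g j) ^ 0 • Λ.ι.app U.1 (show Γ(Ω', U.1) from w),
        (QCohLib.app_smul Λ'.ι U.1 _ _).symm, by rw [pow_zero, one_smul, QCohLib.app_smul]⟩
    · refine ⟨(∏ j ∈ Finset.univ.erase (i.succAbove k), g j) • d.app U.1 (g (i.succAbove k)), dl (i.succAbove k), ?_, ?_⟩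
      · rw [← Finset.prod_erase_mul _ _ (Finset.mem_univ (i.succAbove k)), mul_smul, QCohLib.app_smul]
        exact congrArg (_ • ·) (hdl' k)
      · rw [← Finset.prod_erase_mul _ _ (Finset.mem_univ (i.succAbove k)), mul_smul, QCohLib.app_smul]
        exact congrArg (_ • ·) (hdl (i.succAbove k))
  | zero => exact ⟨0, 0, by rw [map_zero]; exact smul_zero _, by rw [map_zero, smul_zero]⟩
  | add a b _ _ ha hb =>
    obtain ⟨ω, y, h1, h2⟩ := ha
    obtain ⟨ω', y', h1', h2'⟩ := hb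
    exact ⟨ω + ω', y + y', by rw [map_add, ← h1, ← h1']; exact smul_add _ _ _, by rw [map_add, smul_add, h2, h2']⟩
  | smul t a _ ha =>
    obtain ⟨ω, y, h1, h2⟩ := ha
    exact ⟨t • ω, t • y, by rw [QCohLib.app_smul, ← h1]; exact smul_comm _ _ _, by
      rw [QCohLib.app_smul, ← h2]; exact smul_comm _ _ _⟩

lemma prod_rF {U V : X.Opens} (h : V ≤ U) {n : ℕ} (g : Fin n → Γ(X, U)) : rF h (∏ j, g j) = ∏ j, rF h (g j) :=
  map_prod _ _ _

include hD

lemma exists_subRel {V : X.Opens} (a : Γ(Λ'.L, V)) : ∃ y, SubRel Λ Λ' a y := by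
  haveI := Λ'.mono
  have hloc : ∀ p : V, ∃ (U : X.affineOpens) (g : Fin (r + 1) → Γ(X, U.1)) (h : U.1 ≤ V) (ω : Γ(Ω', U.1)) (y : Γ(Λ.L, U.1)),
      p.1 ∈ U.1 ∧ IsEqn D U g ∧ (∏ j, g j) • rM Λ'.L h a = Λ'.ι.app U.1 ω ∧ (∏ j, g j) • y = Λ.ι.app U.1 ω := by
    intro p
    obtain ⟨U, g, hpU, hle, hg⟩ := exists_principal hD p.2
    obtain ⟨ω, y, h1, h2⟩ := exists_clear Λ Λ' hg (rM Λ'.L hle a)
    exact ⟨U, g, hle, ω, y, hpU, hg, h1, h2⟩
  choose U g hle ω y hpU hg h1 h2 using hloc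
  -- two local values agree
  have compat : ∀ (T U' : X.affineOpens) (g' : Fin (r + 1) → Γ(X, U'.1)), IsEqn D U' g' → ∀ (h' : U'.1 ≤ V)
      (ω' : Γ(Ω', U'.1)) (z : Γ(Λ.L, U'.1)), (∏ j, g' j) • rM Λ'.L h' a = Λ'.ι.app U'.1 ω' →
      (hT : T.1 ≤ U'.1) → ∀ (p : V) (hT' : T.1 ≤ (U p).1),
      (∏ j, rF hT (g' j)) • rM Λ.L hT' (y p) = Λ.ι.app T.1 (rM Ω' hT ω') := by
    intro T U' g' hg' h' ω' z ha' hT p hT'
    obtain ⟨ω'', y'', e1, e2⟩ := exists_clear Λ Λ' ((hg p).res T hT') (rM Λ'.L (hT'.trans (hle p)) a)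
    have e3 : rM Ω' hT' (ω p) = ω'' := by
      refine QCohLib.app_injective_of_mono Λ'.ι T.1 ?_
      rw [← e1, rM, QCohLib.app_map Λ'.ι (homOfLE hT'), ← h1 p]
      refine (rM_smul _ hT' _ _).trans ?_
      rw [prod_rF, rM_rM]
    have e4 : rM Λ.L hT' (y p) = y'' := by
      refine torsionFree Λ ((hg p).res T hT') _ _ ?_
      rw [e2, ← prod_rF, ← rM_smul, h2 p, ← e3]
      exact (QCohLib.app_map Λ.ι (homOfLE hT') (ω p)).symm
    -- compare the two denominators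
    refine torsionFree Λ ((hg p).res T hT') _ _ ?_
    rw [smul_comm, e4, e2, ← QCohLib.app_smul, ← QCohLib.app_smul]
    congr 1
    refine QCohLib.app_injective_of_mono Λ'.ι T.1 ?_
    rw [QCohLib.app_smul, QCohLib.app_smul, ← e1, rM, QCohLib.app_map Λ'.ι (homOfLE hT), ← ha']
    show _ = _ • rM Λ'.L hT ((∏ j, g' j) • rM Λ'.L h' a)
    rw [rM_smul, prod_rF, rM_rM]
    exact smul_comm _ _ _
  obtain ⟨q, hq, -⟩ := TopCat.Sheaf.existsUnique_gluing' ⟨Λ.L.presheaf, Λ.L.isSheaf⟩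
    (fun p : V => (U p).1) V (fun p => homOfLE (hle p)) (fun x hx => Opens.mem_iSup.mpr ⟨⟨x, hx⟩, hpU ⟨x, hx⟩⟩) y (by
      intro p p'
      refine TwistLib.mod_ext _ fun z hz => ?_
      obtain ⟨T, hzT, hT, hT'⟩ := exists_affine_inf hz.1 hz.2
      have e1 := compat T (U p) (g p) (hg p) (hle p) (ω p) (y p) (h1 p) hT p hT
      have e2 := compat T (U p) (g p) (hg p) (hle p) (ω p) (y p) (h1 p) hT p' hT'
      have h := congrArg (Λ.L.presheaf.germ T.1 z hzT) (torsionFree Λ ((hg p).res T hT) _ _ (e1.trans e2.symm))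
      rw [TopCat.Presheaf.germ_res_apply, TopCat.Presheaf.germ_res_apply] at h
      erw [TopCat.Presheaf.germ_res_apply, TopCat.Presheaf.germ_res_apply]
      exact h)
  refine ⟨q, fun U' g' hg' h' ω' ha' => ?_⟩
  refine TwistLib.mod_ext _ fun z hz => ?_
  let p : V := ⟨z, h' hz⟩
  obtain ⟨T, hzT, hT, hT'⟩ := exists_affine_inf hz (hpU p)
  have e := compat T U' g' hg' h' ω' (rM Λ.L h' q) ha' hT p hT'
  rw [← prod_rF, show rM Λ.L hT' (y p) = rM Λ.L hT (rM Λ.L h' q) by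
    rw [← show rM Λ.L (hle p) q = y p from hq p, rM_rM, rM_rM]] at e
  rw [← rM_smul] at e
  have h := congrArg (Λ.L.presheaf.germ T.1 z hzT) (e.trans (QCohLib.app_map Λ.ι (homOfLE hT) ω'))
  rwa [TopCat.Presheaf.germ_res_apply, TopCat.Presheaf.germ_res_apply] at h

lemma subRel_unique {V : X.Opens} {a : Γ(Λ'.L, V)} {y y' : Γ(Λ.L, V)} (h : SubRel Λ Λ' a y)
    (h' : SubRel Λ Λ' a y') : y = y' := by
  refine TwistLib.mod_ext _ fun p hp => ?_
  obtain ⟨U, g, hpU, hle, hg⟩ := exists_principal hD hp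
  obtain ⟨ω, z, h1, -⟩ := exists_clear Λ Λ' hg (rM Λ'.L hle a)
  have := congrArg (Λ.L.presheaf.germ U.1 p hpU)
    (torsionFree Λ hg _ _ ((h U g hg hle ω h1).trans (h' U g hg hle ω h1).symm))
  rwa [TopCat.Presheaf.germ_res_apply, TopCat.Presheaf.germ_res_apply] at this

/-- the comparison map -/
def subHom : Λ'.L ⟶ Λ.L :=
  mkHom (fun V a => (exists_subRel hD Λ Λ' a).choose)
    (fun V a b => by
      refine subRel_unique hD Λ Λ' (exists_subRel hD Λ Λ' (a + b)).choose_spec (fun U g hg h ω hω => ?_)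
      obtain ⟨ω₁, -, e1, -⟩ := exists_clear Λ Λ' hg (rM Λ'.L h a)
      obtain ⟨ω₂, -, e2, -⟩ := exists_clear Λ Λ' hg (rM Λ'.L h b)
      haveI := Λ'.mono
      have e : ω = ω₁ + ω₂ := QCohLib.app_injective_of_mono Λ'.ι U.1 (by
        rw [← hω, map_add, ← e1, ← e2, ← smul_add]; exact congrArg (_ • ·) (map_add _ a b))
      rw [e, map_add, ← (exists_subRel hD Λ Λ' a).choose_spec U g hg h ω₁ e1,
        ← (exists_subRel hD Λ Λ' b).choose_spec U g hg h ω₂ e2, ← smul_add]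
      exact congrArg (_ • ·) (map_add _ _ _))
    (fun V t a => by
      refine subRel_unique hD Λ Λ' (exists_subRel hD Λ Λ' (t • a)).choose_spec (fun U g hg h ω hω => ?_)
      obtain ⟨ω₁, -, e1, -⟩ := exists_clear Λ Λ' hg (rM Λ'.L h a)
      haveI := Λ'.mono
      have e : ω = rF h t • ω₁ := QCohLib.app_injective_of_mono Λ'.ι U.1 (by
        rw [← hω, QCohLib.app_smul, ← e1, rM_smul]; exact smul_comm _ _ _)
      rw [e, QCohLib.app_smul, ← (exists_subRel hD Λ Λ' a).choose_spec U g hg h ω₁ e1, rM_smul]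
      exact smul_comm _ _ _)
    (fun V W h a => by
      refine subRel_unique hD Λ Λ' (exists_subRel hD Λ Λ' (rM Λ'.L h a)).choose_spec (fun U g hg hU ω hω => ?_)
      rw [rM_rM] at hω ⊢
      exact (exists_subRel hD Λ Λ' a).choose_spec U g hg (hU.trans h) ω hω)

theorem exists_isSubLog : ∃ κ : Λ'.L ⟶ Λ.L, LogNCD.IsSubLog Λ' Λ κ := by
  refine ⟨subHom hD Λ Λ', Scheme.Modules.hom_ext _ _ fun V => ConcreteCategory.hom_ext _ _ fun ω => ?_⟩
  show (exists_subRel hD Λ Λ' (Λ'.ι.app V ω)).choose = Λ.ι.app V ω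
  refine subRel_unique hD Λ Λ' (exists_subRel hD Λ Λ' _).choose_spec (fun U g hg h ω' hω => ?_)
  haveI := Λ'.mono
  have e : ω' = (∏ j, g j) • rM Ω' h ω := QCohLib.app_injective_of_mono Λ'.ι U.1 (by
    rw [← hω, QCohLib.app_smul]; exact congrArg (_ • ·) (QCohLib.app_map Λ'.ι (homOfLE h) ω).symm)
  rw [e, QCohLib.app_smul]
  exact congrArg (_ • ·) (QCohLib.app_map Λ.ι (homOfLE h) ω).symm

omit hD in
/-- the stalks of a log module on principal neighbourhoods -/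
theorem stalk_span {m : ℕ} {E : Fin m → X.IdealSheafData} (M : LogNCD.LogMod d E) (U : X.affineOpens) {x : X}
    (hxU : x ∈ U.1) (g : Fin m → Γ(X, U.1)) (hg : IsEqn E U g) (dl : Fin m → Γ(M.L, U.1))
    (h1 : ∀ j, g j • dl j = M.ι.app U.1 (d.app U.1 (g j))) (a : (St x).obj M.L) :
    ∃ (ω : (St x).obj Ω') (c : Fin m → X.presheaf.stalk x),
      a = ((St x).map M.ι).hom ω + ∑ j, c j • gm M.L x hxU (dl j) := by
  classical
  obtain ⟨O, hxO, t, rfl⟩ := exists_gm_eq M.L x a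
  obtain ⟨W, hxW, hWU, hWO⟩ := exists_affine_inf hxU hxO
  have hgW := hg.res W hWU
  obtain ⟨htf, dl₂, hdl₂, hspan, -, -⟩ := M.rule W _ hgW
  have heq : ∀ j, dl₂ j = rM M.L hWU (dl j) := fun j => by
    rw [← sub_eq_zero]
    refine htf _ ?_
    show (∏ l, rF hWU (g l)) • ((show Γ(M.L, W.1) from dl₂ j) - rM M.L hWU (dl j)) = 0
    rw [← Finset.prod_erase_mul _ _ (Finset.mem_univ j), mul_smul, smul_sub, ← rM_smul, h1 j,
      show rF hWU (g j) • (show Γ(M.L, W.1) from dl₂ j) = M.ι.app W.1 (d.app W.1 (rF hWU (g j))) from hdl₂ j,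
      OmegaAffLib.der_rs d hWU (g j)]
    rw [show M.ι.app W.1 (ModGlueLib.rs Ω' hWU (d.app U.1 (g j))) = rM M.L hWU (M.ι.app U.1 (d.app U.1 (g j))) from
      QCohLib.app_map M.ι (homOfLE hWU) _, sub_self, smul_zero]
  suffices h : ∀ s : M.L.val.obj (op W.1), ∃ (ω : (St x).obj Ω') (c : Fin m → X.presheaf.stalk x),
      gm M.L x hxW s = ((St x).map M.ι).hom ω + ∑ j, c j • gm M.L x hxU (dl j) by
    obtain ⟨ω, c, hc⟩ := h (M.L.presheaf.map (homOfLE hWO).op t)
    exact ⟨ω, c, by rw [← hc, gm_map]⟩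
  intro s
  have hs : s ∈ (⊤ : Submodule Γ(X, W.1) (M.L.val.obj (op W.1))) := trivial
  rw [← hspan] at hs
  induction hs using Submodule.span_induction with
  | mem s hs =>
    rcases hs with ⟨w, rfl⟩ | ⟨j, rfl⟩
    · exact ⟨gm Ω' x hxW w, 0, by simp only [Pi.zero_apply, zero_smul, Finset.sum_const_zero, add_zero, gm_app]; rfl⟩
    · refine ⟨0, Pi.single j 1, ?_⟩
      rw [heq j, map_zero, zero_add, Finset.sum_eq_single j]
      · rw [Pi.single_eq_same, one_smul]; exact gm_map M.L hWU x hxW (dl j)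
      · intro l _ hl; rw [Pi.single_eq_of_ne hl, zero_smul]
      · simp
  | zero => exact ⟨0, 0, by simp⟩
  | add s s' _ _ hs hs' =>
    obtain ⟨ω, c, hc⟩ := hs
    obtain ⟨ω', c', hc'⟩ := hs'
    refine ⟨ω + ω', c + c', ?_⟩
    rw [show gm M.L x hxW (s + s') = gm M.L x hxW s + gm M.L x hxW s' from map_add _ _ _, hc, hc', map_add]
    simp only [Pi.add_apply, add_smul, Finset.sum_add_distrib]
    abel
  | smul p s _ hs =>
    obtain ⟨ω, c, hc⟩ := hs
    refine ⟨X.presheaf.germ W.1 x hxW p • ω, fun j => X.presheaf.germ W.1 x hxW p * c j, ?_⟩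
    rw [show gm M.L x hxW (p • s) = _ from gm_smul M.L x hxW p s, hc, smul_add, map_smul, Finset.smul_sum]
    simp only [mul_smul]

/-- the sequence of the removed component is exact -/
theorem shortExact_sub (κ : Λ'.L ⟶ Λ.L) (hκ : LogNCD.IsSubLog Λ' Λ κ) (h : κ ≫ Λ.res i = 0) :
    (ShortComplex.mk κ (Λ.res i) h).ShortExact := by
  classical
  haveI := Λ.mono
  haveI := Λ'.mono
  have hpl : Λ.ι ≫ Pi.lift Λ.res = 0 := Pi.hom_ext _ _ fun j => by
    rw [Category.assoc, Pi.lift_π, zero_comp]; exact Λ.res_ι j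
  haveI : Epi (Pi.lift Λ.res) := (shortExact hD Λ hpl).epi_g
  haveI : Epi (Pi.π (fun j => ClSub.quotMod (D j)) i) := by
    let s : ClSub.quotMod (D i) ⟶ ∏ᶜ (fun j => ClSub.quotMod (D j)) :=
      Pi.lift fun j => if hj : i = j then eqToHom (by rw [hj]) else 0
    have hs : s ≫ Pi.π _ i = 𝟙 _ := by simp [s]
    exact (SplitEpi.mk s hs).epi
  haveI : Epi (Λ.res i) := by rw [← Pi.lift_π Λ.res i]; infer_instance
  have hι : ∀ (x : X) (w : (St x).obj Ω'), ((St x).map κ).hom (((St x).map Λ'.ι).hom w) = ((St x).map Λ.ι).hom w := by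
    intro x w
    show ((St x).map Λ'.ι ≫ (St x).map κ).hom w = _
    rw [← Functor.map_comp]
    exact congrArg (fun φ => ((St x).map φ).hom w) hκ
  have hres : ∀ (x : X) (j : Fin (r + 1)) (w : (St x).obj Ω'),
      ((St x).map (Λ.res j)).hom (((St x).map Λ.ι).hom w) = 0 := by
    intro x j w
    show ((St x).map Λ.ι ≫ (St x).map (Λ.res j)).hom w = 0
    rw [← Functor.map_comp, Λ.res_ι, Functor.map_zero]
    rfl
  -- compatibility of the generators
  have hgen : ∀ (U : X.affineOpens) (g : Fin (r + 1) → Γ(X, U.1)), IsEqn D U g →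
      ∀ (dl : Fin (r + 1) → Γ(Λ.L, U.1)) (dl' : Fin r → Γ(Λ'.L, U.1)),
      (∀ j, g j • dl j = Λ.ι.app U.1 (d.app U.1 (g j))) →
      (∀ k, g (i.succAbove k) • dl' k = Λ'.ι.app U.1 (d.app U.1 (g (i.succAbove k)))) →
      ∀ k, κ.app U.1 (dl' k) = dl (i.succAbove k) := by
    intro U g hg dl dl' h1 h2 k
    refine torsionFree Λ hg _ _ ?_
    rw [← Finset.prod_erase_mul _ _ (Finset.mem_univ (i.succAbove k)), mul_smul, mul_smul, ← QCohLib.app_smul κ,
      h2 k, h1]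
    congr 1
    exact congrArg (fun φ : Ω' ⟶ Λ.L => φ.app U.1 (d.app U.1 (g (i.succAbove k)))) hκ
  refine CurvLib.shortExact_of_stalks _ fun x => ?_
  obtain ⟨U, g, hxU, -, hg⟩ := exists_principal hD (O := (⊤ : X.Opens)) (x := x) trivial
  obtain ⟨-, dl, h1, hspan, h3, h4⟩ := Λ.rule U g hg
  obtain ⟨-, dl', h1', hspan', -, -⟩ := Λ'.rule U (g ∘ i.succAbove) fun k => hg (i.succAbove k)
  have hk := hgen U g hg dl dl' h1 h1'
  -- stalk generators
  have hsmall := fun a => stalk_span Λ' U hxU (g ∘ i.succAbove) (fun k => hg (i.succAbove k)) dl' h1' a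
  have hbig := fun a => stalk_span Λ U hxU g hg dl h1 a
  have hker : ∀ (j : Fin (r + 1)) (ω : (St x).obj Ω') (c : Fin (r + 1) → X.presheaf.stalk x),
      ((St x).map (Λ.res j)).hom (((St x).map Λ.ι).hom ω + ∑ l, c l • gm Λ.L x hxU (dl l)) = 0 →
      ∃ w : (St x).obj Ω', c j • gm Λ.L x hxU (dl j) = ((St x).map Λ.ι).hom w ∧
        ∃ b, c j = b * X.presheaf.germ U.1 x hxU (g j) := by
    intro j ω c h0
    rw [map_add, hres, zero_add, map_sum, Finset.sum_eq_single j] at h0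
    · rw [map_smul, gm_app, show (Λ.res j).app U.1 (dl j) = _ from h3 j] at h0
      obtain ⟨b, hb⟩ := exists_eq_mul_germ (D j) U (g j) (hg j) hxU (c j) h0
      refine ⟨b • gm Ω' x hxU (d.app U.1 (g j)), ?_, b, hb⟩
      rw [map_smul, gm_app, hb, mul_smul, ← gm_smul]
      exact congrArg (fun q => b • gm Λ.L x hxU q) (h1 j)
    · intro l _ hl
      rw [map_smul, gm_app, show (Λ.res j).app U.1 (dl l) = 0 from h4 l j hl, gm_zero]
      exact smul_zero (M := X.presheaf.stalk x) _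
    · intro hj; exact absurd (Finset.mem_univ j) hj
  have hκg : ∀ (ω : (St x).obj Ω') (c : Fin r → X.presheaf.stalk x),
      ((St x).map κ).hom (((St x).map Λ'.ι).hom ω + ∑ k, c k • gm Λ'.L x hxU (dl' k)) =
        ((St x).map Λ.ι).hom ω + ∑ k, c k • gm Λ.L x hxU (dl (i.succAbove k)) := by
    intro ω c
    rw [map_add, hι, map_sum]
    congr 1
    refine Finset.sum_congr rfl fun k _ => ?_
    rw [map_smul, gm_app, hk]
  refine { exact := ?_, mono_f := ?_, epi_g := inferInstanceAs (Epi ((St x).map (Λ.res i))) }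
  · rw [ShortComplex.moduleCat_exact_iff]
    intro a (ha : ((St x).map (Λ.res i)).hom a = 0)
    obtain ⟨ω, c, rfl⟩ := hbig a
    obtain ⟨w, hw, -⟩ := hker i ω c ha
    refine ⟨((St x).map Λ'.ι).hom (ω + w) + ∑ k, c (i.succAbove k) • gm Λ'.L x hxU (dl' k), ?_⟩
    refine (hκg (ω + w) fun k => c (i.succAbove k)).trans ?_
    rw [Fin.sum_univ_succAbove _ i, hw, map_add, add_assoc]
  · show Mono ((St x).map κ)
    rw [ModuleCat.mono_iff_injective, injective_iff_map_eq_zero]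
    intro a ha
    obtain ⟨ω, c, rfl⟩ := hsmall a
    have h0 : ((St x).map Λ.ι).hom ω + ∑ k, c k • gm Λ.L x hxU (dl (i.succAbove k)) = 0 := (hκg ω c).symm.trans ha
    let c' : Fin (r + 1) → X.presheaf.stalk x := i.insertNth 0 c
    have hc' : ((St x).map Λ.ι).hom ω + ∑ l, c' l • gm Λ.L x hxU (dl l) = 0 := by
      rw [Fin.sum_univ_succAbove _ i]
      simp only [c', Fin.insertNth_apply_same, Fin.insertNth_apply_succAbove]
      exact (congrArg (((St x).map Λ.ι).hom ω + ·) ((congrArg (· + _) (zero_smul (X.presheaf.stalk x) _)).trans (zero_add _))).trans h0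
    have hw : ∀ k, ∃ w : (St x).obj Ω', c k • gm Λ.L x hxU (dl (i.succAbove k)) = ((St x).map Λ.ι).hom w ∧
        c k • gm Λ'.L x hxU (dl' k) = ((St x).map Λ'.ι).hom w := by
      intro k
      obtain ⟨-, -, b, hb⟩ := hker (i.succAbove k) ω c' (by rw [hc', map_zero])
      simp only [c', Fin.insertNth_apply_succAbove] at hb
      refine ⟨b • gm Ω' x hxU (d.app U.1 (g (i.succAbove k))), ?_, ?_⟩
      · rw [map_smul, gm_app, hb, mul_smul, ← gm_smul]
        exact congrArg (fun q => b • gm Λ.L x hxU q) (h1 (i.succAbove k))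
      · rw [map_smul, gm_app, hb, mul_smul, ← gm_smul]
        exact congrArg (fun q => b • gm Λ'.L x hxU q) (h1' k)
    choose w hw1 hw2 using hw
    rw [Finset.sum_congr rfl fun k _ => hw1 k, ← map_sum, ← map_add] at h0
    have hinj : Function.Injective ((St x).map Λ.ι).hom := (ModuleCat.mono_iff_injective _).1 inferInstance
    rw [Finset.sum_congr rfl fun k _ => hw2 k, ← map_sum, ← map_add, hinj (h0.trans (map_zero _).symm), map_zero]

end LogModLocLib
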